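import Mathlib
import Cfsg.Agent.H887.TenSp.Ops

/-!
If `M` (as in `Hy`) contains a long root element of pure tensors then it contains `E Q`.
-/

set_option autoImplicit false
set_option linter.unusedSectionVars false

namespace Cfsg.Agent.H887.TenSp

open TensorProduct QuadraticMap Cfsg.Agent.LieClassical.OrthCore
  Cfsg.Agent.LieClassical.OrthTrans Cfsg.Agent.ClassicalGeometry.OrthAutBasic
  Cfsg.Agent.H887.SiegelMethod

variable {F U W : Type*} [Field F] [AddCommGroup U] [Module F U] [AddCommGroup W] [Module F W]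
  [FiniteDimensional F U] [FiniteDimensional F W]
  {f : LinearMap.BilinForm F U} {g : LinearMap.BilinForm F W}
  {Q : QuadraticForm F (U ⊗[F] W)} {M : Subgroup ((U ⊗[F] W) ≃ₗ[F] (U ⊗[F] W))}

/-- There is a vector in `⟨a, b⟩^⊥` outside `⟨a, b⟩` if the dimension is at least 5. -/
theorem Alt.exists_perp_not_mem (hg : Alt g) (hd : 5 ≤ Module.finrank F W) (a b : W) :
    ∃ t, g t a = 0 ∧ g t b = 0 ∧ t ∉ Submodule.span F {a, b} := by
  by_contra hcon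
  push Not at hcon
  have h1 : perp g (Submodule.span F {a, b}) ≤ Submodule.span F {a, b} := by
    intro t ht
    refine hcon t ?_ ?_
    · exact hg.comm_zero (ht a (Submodule.subset_span (by simp)))
    · exact hg.comm_zero (ht b (Submodule.subset_span (by simp)))
  have h2 := hg.finrank_perp (Submodule.span F {a, b})
  have h3 := finrank_span_pair_le (F := F) a b
  have h4 := Submodule.finrank_mono h1
  omega

theorem Hy.memO (h : Hy f g Q M) {s : (U ⊗[F] W) ≃ₗ[F] (U ⊗[F] W)} (hs : s ∈ M) : s ∈ O Q :=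
  h.hO hs

/-- `Ts` transported by `A ⊗ 1`. -/
theorem Hy.Ts_actU (h : Hy f g Q M) {A : U ≃ₗ[F] U} (hA : A ∈ GU f M) {x x' : U} {y y' : W}
    (hx : x' ⊗ₜ y' ∈ Ts Q M (x ⊗ₜ y)) : A x' ⊗ₜ y' ∈ Ts Q M (A x ⊗ₜ y) := by
  have := map_mem_Ts hA.2 (h.hO hA.2) hx
  rwa [actU_tmul, actU_tmul] at this

theorem Hy.Ts_actW (h : Hy f g Q M) {A : W ≃ₗ[F] W} (hA : A ∈ GW g M) {x x' : U} {y y' : W}
    (hx : x' ⊗ₜ y' ∈ Ts Q M (x ⊗ₜ y)) : x' ⊗ₜ A y' ∈ Ts Q M (x ⊗ₜ A y) := by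
  have := map_mem_Ts hA.2 (h.hO hA.2) hx
  rwa [actW_tmul, actW_tmul] at this

/-- Moving the second factor inside `w^⊥`. -/
theorem Hy.spreadW (h : Hy f g Q M) {x x' : U} {w w' : W} (hw : w' ∉ Submodule.span F {w})
    (hx : x' ⊗ₜ w' ∈ Ts Q M (x ⊗ₜ w)) {t : W} (ht : g t w = 0) :
    x' ⊗ₜ t ∈ Ts Q M (x ⊗ₜ w) := by
  have key : ∀ s : W, g s w = 0 → g s w' ≠ 0 → x' ⊗ₜ s ∈ Ts Q M (x ⊗ₜ w) := by
    intro s hs hs'
    have h1 := h.Ts_actW (h.tvW s 1) hx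
    rw [tv_apply, tv_apply, hs, mul_zero, zero_smul, add_zero, TensorProduct.tmul_add] at h1
    have h2 := (Ts Q M (x ⊗ₜ[F] w)).sub_mem h1 hx
    rw [add_sub_cancel_left, one_mul, TensorProduct.tmul_smul] at h2
    exact (Submodule.smul_mem_iff _ hs').1 h2
  by_cases h1 : g t w' = 0
  · obtain ⟨s, hs, hs'⟩ := h.hg.sep1 hw
    have h2 := key (t + s) (by rw [map_add, LinearMap.add_apply, ht, hs', add_zero])
      (by rw [map_add, LinearMap.add_apply, h1, hs, zero_add]; exact one_ne_zero)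
    have h3 := key s hs' (by rw [hs]; exact one_ne_zero)
    have h4 := (Ts Q M (x ⊗ₜ[F] w)).sub_mem h2 h3
    rwa [TensorProduct.tmul_add, add_sub_cancel_right] at h4
  · exact key t ht h1

/-- Moving the first factor inside `u^⊥`. -/
theorem Hy.spreadU (h : Hy f g Q M) {x x' : U} {w w' : W} (hw : x' ∉ Submodule.span F {x})
    (hx : x' ⊗ₜ w' ∈ Ts Q M (x ⊗ₜ w)) {t : U} (ht : f t x = 0) :
    t ⊗ₜ w' ∈ Ts Q M (x ⊗ₜ w) := by
  have key : ∀ s : U, f s x = 0 → f s x' ≠ 0 → s ⊗ₜ w' ∈ Ts Q M (x ⊗ₜ w) := by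
    intro s hs hs'
    have h1 := h.Ts_actU (h.tvU s 1) hx
    rw [tv_apply, tv_apply, hs, mul_zero, zero_smul, add_zero, TensorProduct.add_tmul] at h1
    have h2 := (Ts Q M (x ⊗ₜ[F] w)).sub_mem h1 hx
    rw [add_sub_cancel_left, one_mul, ← TensorProduct.smul_tmul'] at h2
    exact (Submodule.smul_mem_iff _ hs').1 h2
  by_cases h1 : f t x' = 0
  · obtain ⟨s, hs, hs'⟩ := h.hf.sep1 hw
    have h2 := key (t + s) (by rw [map_add, LinearMap.add_apply, ht, hs', add_zero])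
      (by rw [map_add, LinearMap.add_apply, h1, hs, zero_add]; exact one_ne_zero)
    have h3 := key s hs' (by rw [hs]; exact one_ne_zero)
    have h4 := (Ts Q M (x ⊗ₜ[F] w)).sub_mem h2 h3
    rwa [TensorProduct.add_tmul, add_sub_cancel_right] at h4
  · exact key t ht h1

/-- All root elements `(u ⊗ w, u ⊗ w')` with `w ⊥ w'`. -/
def Beta (g : LinearMap.BilinForm F W) (Q : QuadraticForm F (U ⊗[F] W))
    (M : Subgroup ((U ⊗[F] W) ≃ₗ[F] (U ⊗[F] W))) : Prop :=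
  ∀ (u : U) (w w' : W), g w' w = 0 → u ⊗ₜ w' ∈ Ts Q M (u ⊗ₜ w)

theorem Hy.beta_of (h : Hy f g Q M) {u : U} {w w' : W} (hu : u ≠ 0) (hw : w ≠ 0)
    (hw' : w' ∉ Submodule.span F {w}) (hx : u ⊗ₜ w' ∈ Ts Q M (u ⊗ₜ w)) : Beta g Q M := by
  intro u1 w1 w1' hw1
  by_cases hu1 : u1 = 0
  · rw [hu1, TensorProduct.zero_tmul, TensorProduct.zero_tmul]
    exact (Ts Q M _).zero_mem
  by_cases hw1z : w1 = 0
  · rw [hw1z, TensorProduct.tmul_zero]
    refine ⟨polar_zero_left Q _, fun c => ?_⟩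
    rw [T_zero_left]
    exact M.one_mem
  obtain ⟨A, hA, hA'⟩ := h.transU hu hu1
  obtain ⟨B, hB, hB'⟩ := h.transW hw hw1z
  have h1 := h.spreadW hw' hx (t := B⁻¹ w1') (by
    have e : ∀ z, B (B⁻¹ z) = z := fun z => LinearEquiv.apply_symm_apply B z
    rw [← hB.1, e, hB', hw1])
  have h2 := h.Ts_actW hB (h.Ts_actU hA h1)
  have e : B (B⁻¹ w1') = w1' := LinearEquiv.apply_symm_apply B w1'
  rwa [hA', hB', e] at h2

theorem Hy.E_le_of_beta [Finite F] (h : Hy f g Q M) (hd : 5 ≤ Module.finrank F W)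
    (hU0 : ∃ u : U, u ≠ 0) (hbig : Big Q) (hb : Beta g Q M) : E Q ≤ M := by
  -- `U ⊗ w^⊥`
  have c3 : ∀ (u : U) (w : W), w ≠ 0 → u ≠ 0 → ∀ (u1 : U) (w1' : W), g w1' w = 0 →
      u1 ⊗ₜ w1' ∈ Ts Q M (u ⊗ₜ w) := by
    intro u w hw hu
    have key : ∀ (u1 : U) (w1' : W), f u1 u ≠ 0 → g w1' w = 0 →
        u1 ⊗ₜ w1' ∈ Ts Q M (u ⊗ₜ w) := by
      intro u1 w1' hu1 hw1'
      obtain ⟨t, ht1, ht2, ht3⟩ := h.hg.exists_perp_not_mem hd w w1'
      obtain ⟨w1, hw1, hw2, hw3⟩ := h.hg.sep2 ht3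
      have hz : u ⊗ₜ t ∈ Ts Q M (u ⊗ₜ w) := hb u w t ht1
      have hT : T Q (u1 ⊗ₜ w1) (u1 ⊗ₜ w1') ∈ M :=
        Ts_mem (hb u1 w1 w1' (h.hg.comm_zero hw3))
      have h1 := root_mem_Ts h.hO (h.Qp u1 w1) (h.Qp u1 w1')
        (by rw [h.pol, h.hf.alt, zero_mul]) hT (u := u ⊗ₜ w) (by
          rw [T_apply_root (h.Qp u1 w1) (h.Qp u1 w1') (by rw [h.pol, h.hf.alt, zero_mul]),
            h.pol, h.pol, hw2, hw1', mul_zero, zero_smul, zero_smul, add_zero, sub_zero]) hz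
      rw [h.pol, h.pol, hw1, h.hg.comm_zero ht2, mul_one, mul_zero, zero_smul, sub_zero] at h1
      exact (Submodule.smul_mem_iff _ hu1).1 h1
    intro u1 w1' hw1'
    by_cases h1 : f u1 u = 0
    · obtain ⟨u2, hu2⟩ := h.hf.exists_ne' hu
      have h2 := key (u1 + u2) w1' (by
        rw [map_add, LinearMap.add_apply, h1, hu2, zero_add]; exact one_ne_zero) hw1'
      have h3 := key u2 w1' (by rw [hu2]; exact one_ne_zero) hw1'
      have h4 := (Ts Q M (u ⊗ₜ[F] w)).sub_mem h2 h3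
      rwa [TensorProduct.add_tmul, add_sub_cancel_right] at h4
    · exact key u1 w1' h1 hw1'
  -- `u^⊥ ⊗ W`
  have c4 : ∀ (u : U) (w : W), w ≠ 0 → u ≠ 0 → ∀ (u1 : U) (w1' : W), f u1 u = 0 →
      u1 ⊗ₜ w1' ∈ Ts Q M (u ⊗ₜ w) := by
    intro u w hw hu u1 w1' hu1
    by_cases hu1z : u1 = 0
    · rw [hu1z, TensorProduct.zero_tmul]
      exact zero_mem _
    obtain ⟨u2, hu2⟩ := h.hf.exists_ne hu1z
    obtain ⟨t, ht1, ht2, ht3⟩ := h.hg.exists_perp_not_mem hd w w1'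
    obtain ⟨w1, hw1, hw2, hw3⟩ := h.hg.sep2 ht3
    have hz : u2 ⊗ₜ t ∈ Ts Q M (u ⊗ₜ w) := c3 u w hw hu u2 t ht1
    have hT : T Q (u1 ⊗ₜ w1) (u1 ⊗ₜ w1') ∈ M :=
      Ts_mem (hb u1 w1 w1' (h.hg.comm_zero hw3))
    have h1 := root_mem_Ts h.hO (h.Qp u1 w1) (h.Qp u1 w1')
      (by rw [h.pol, h.hf.alt, zero_mul]) hT (u := u ⊗ₜ w) (by
        rw [T_apply_root (h.Qp u1 w1) (h.Qp u1 w1') (by rw [h.pol, h.hf.alt, zero_mul]),
          h.pol, h.pol, hu1, zero_mul, zero_mul, zero_smul, zero_smul, add_zero, sub_zero]) hz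
    rw [h.pol, h.pol, hw1, h.hg.comm_zero ht2, mul_one, mul_zero, zero_smul, sub_zero, hu2,
      one_smul] at h1
    exact h1
  -- everything
  have c5 : ∀ (u : U) (w : W), w ≠ 0 → u ≠ 0 → ∀ v, polar Q (u ⊗ₜ w) v = 0 →
      v ∈ Ts Q M (u ⊗ₜ w) := by
    intro u w hw hu v hv
    obtain ⟨w0, hw0⟩ := h.hg.exists_ne hw
    have h1 : f u (kW U g w v) = 0 := by rw [← h.polW]; exact hv
    have h2 : v - kW U g w v ⊗ₜ w0 ∈ Ts Q M (u ⊗ₜ w) := by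
      have h3 : UL U (perp g (Submodule.span F {w})) ≤ Ts Q M (u ⊗ₜ w) := by
        refine Submodule.span_le.2 ?_
        rintro _ ⟨z, t, ht, rfl⟩
        exact c3 u w hw hu z t (h.hg.comm_zero (ht w (Submodule.mem_span_singleton_self w)))
      apply h3
      rw [mem_UL_iff h.hg, h.hg.perp_perp]
      intro w' hw'
      obtain ⟨c, rfl⟩ := Submodule.mem_span_singleton.1 hw'
      rw [kW_smul, map_sub, kW_tmul, hw0, one_smul, sub_self, smul_zero]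
    have h3 := (Ts Q M (u ⊗ₜ[F] w)).add_mem h2 (c4 u w hw hu _ w0 (h.hf.comm_zero h1))
    rwa [sub_add_cancel] at h3
  obtain ⟨u, hu⟩ := hU0
  have hW0 : ∃ w : W, w ≠ 0 := by
    obtain ⟨t, -, -, ht⟩ := h.hg.exists_perp_not_mem hd 0 0
    refine ⟨t, ?_⟩
    rintro rfl
    exact ht (zero_mem _)
  obtain ⟨w, hw⟩ := hW0
  obtain ⟨u', hu'⟩ := h.hf.exists_ne hu
  obtain ⟨w', hw'⟩ := h.hg.exists_ne hw
  have hu'0 : u' ≠ 0 := by rintro rfl; simp at hu'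
  have hw'0 : w' ≠ 0 := by rintro rfl; simp at hw'
  exact E_le_of_Ts hbig.good (h.Qp u w) (h.Qp u' w') (by
    rw [h.pol, hu', hw', one_mul]; exact one_ne_zero) (c5 u w hw hu) (c5 u' w' hw'0 hu'0)

/-- A root element `(u ⊗ w, u' ⊗ w)` with `u ⊥ u'` gives `Beta`. -/
theorem Hy.beta_of_gamma (h : Hy f g Q M) (hdU : 3 ≤ Module.finrank F U) {u u' : U} {w : W} (hu : u ≠ 0) (hw : w ≠ 0)
    (hu' : u' ∉ Submodule.span F {u}) (hx : u' ⊗ₜ w ∈ Ts Q M (u ⊗ₜ w)) : Beta g Q M := by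
  -- all `(a ⊗ b, c ⊗ b)` with `a ⊥ c`
  have c1 : ∀ (a c : U) (b : W), f c a = 0 → a ≠ 0 → b ≠ 0 → c ⊗ₜ b ∈ Ts Q M (a ⊗ₜ b) := by
    intro a c b hac ha hb
    obtain ⟨A, hA, hA'⟩ := h.transU hu ha
    obtain ⟨B, hB, hB'⟩ := h.transW hw hb
    have e : ∀ z, A (A⁻¹ z) = z := fun z => LinearEquiv.apply_symm_apply A z
    have h1 := h.spreadU hu' hx (t := A⁻¹ c) (by rw [← hA.1, e, hA', hac])
    have h2 := h.Ts_actW hB (h.Ts_actU hA h1)
    rwa [hA', hB', e] at h2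
  -- a vector `u1 ⊥ u` with `u1 ∉ ⟨u⟩`
  have hsp : Submodule.span F {u} ≠ ⊤ := by
    intro e
    have h1 := finrank_span_pair_le (F := F) u u
    rw [Set.pair_eq_singleton, e, finrank_top] at h1
    omega
  obtain ⟨u0, hu0, hu0'⟩ : ∃ u0, f u0 u = 0 ∧ u0 ∉ Submodule.span F {u} := by
    by_contra hcon
    push Not at hcon
    have h1 : perp f (Submodule.span F {u}) ≤ Submodule.span F {u} := fun x hx =>
      hcon x (h.hf.comm_zero (hx u (Submodule.mem_span_singleton_self u)))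
    have h2 := Submodule.finrank_mono h1
    have h3 := h.hf.finrank_perp (Submodule.span F {u})
    have h4 := finrank_span_singleton (K := F) hu
    omega
  obtain ⟨u1, hu1, hu1'⟩ := h.hf.sep1 hu0'
  -- `u ⊗ w1 ∈ Ts (u ⊗ w)` for `g w1 w ≠ 0`
  have key : ∀ w1 : W, g w1 w ≠ 0 → u ⊗ₜ w1 ∈ Ts Q M (u ⊗ₜ w) := by
    intro w1 hw1
    have hw1z : w1 ≠ 0 := by rintro rfl; simp at hw1
    have hu1z : u1 ≠ 0 := by rintro rfl; simp at hu1
    have hT : T Q (u1 ⊗ₜ w1) (u ⊗ₜ w1) ∈ M :=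
      Ts_mem (c1 u1 u w1 (h.hf.comm_zero hu1') hu1z hw1z)
    have hz : u0 ⊗ₜ w ∈ Ts Q M (u ⊗ₜ w) := c1 u u0 w hu0 hu hw
    have hp : polar Q (u1 ⊗ₜ[F] w1) (u ⊗ₜ w1) = 0 := by rw [h.pol, h.hg.alt, mul_zero]
    have h1 := root_mem_Ts h.hO (h.Qp u1 w1) (h.Qp u w1) hp hT (u := u ⊗ₜ w) (by
      rw [T_apply_root (h.Qp u1 w1) (h.Qp u w1) hp, h.pol, h.pol, hu1', h.hf.alt, zero_mul,
        zero_smul, zero_smul, add_zero, sub_zero]) hz
    rw [h.pol, h.pol, hu1, h.hf.comm_zero hu0, one_mul, zero_mul, zero_smul, sub_zero] at h1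
    exact (Submodule.smul_mem_iff _ hw1).1 h1
  obtain ⟨w1, hw1, hw1'⟩ : ∃ w1, g w1 w ≠ 0 ∧ w1 ∉ Submodule.span F {w} := by
    obtain ⟨w1, hw1⟩ := h.hg.exists_ne' hw
    refine ⟨w1, by rw [hw1]; exact one_ne_zero, ?_⟩
    intro hmem
    obtain ⟨c, rfl⟩ := Submodule.mem_span_singleton.1 hmem
    rw [map_smul, LinearMap.smul_apply, h.hg.alt, smul_zero] at hw1
    exact zero_ne_one hw1
  exact h.beta_of hu hw hw1' (key w1 hw1)

/-- A root element `(u ⊗ w, u' ⊗ w')` with `u ⊥ u'`, `w ⊥ w'` gives `Beta`. -/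
theorem Hy.beta_of_alpha (h : Hy f g Q M) (hdU : 3 ≤ Module.finrank F U) {u u' : U} {w w' : W} (hu : u ≠ 0) (hw : w ≠ 0)
    (hu' : u' ∉ Submodule.span F {u}) (hw' : w' ∉ Submodule.span F {w})
    (hx : u' ⊗ₜ w' ∈ Ts Q M (u ⊗ₜ w)) : Beta g Q M :=
  h.beta_of_gamma hdU hu hw hu' (h.spreadW hw' hx (h.hg.alt w))

end Cfsg.Agent.H887.TenSp
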