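import Mathlib
import Cfsg.Agent.H887.TenSp.Root

/-!
`M` as in `Hy`, `L` a maximal totally isotropic subspace of `W`, `s ∈ M` the identity on `U ⊗ L`.
Then `s = 1 ⊗ (1 + ν)`, or `M` contains all root elements `Beta`.
-/

set_option autoImplicit false
set_option linter.unusedSectionVars false

namespace Cfsg.Agent.H887.TenSp

open TensorProduct QuadraticMap Cfsg.Agent.LieClassical.OrthCore
  Cfsg.Agent.LieClassical.OrthTrans Cfsg.Agent.ClassicalGeometry.OrthAutBasic
  Cfsg.Agent.H887.SiegelMethod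

variable {F U W : Type*} [Field F] [AddCommGroup U] [Module F U] [AddCommGroup W] [Module F W]
  [FiniteDimensional F U] [FiniteDimensional F W]
  {f : LinearMap.BilinForm F U} {g : LinearMap.BilinForm F W}
  {Q : QuadraticForm F (U ⊗[F] W)} {M : Subgroup ((U ⊗[F] W) ≃ₗ[F] (U ⊗[F] W))}

/-! ### Linear algebra -/

theorem Alt.indep_zero (hf : Alt f) {x x' : U} {y y' : W} (hx : x ∉ Submodule.span F {x'})
    (hx' : x' ≠ 0) (h : x ⊗ₜ[F] y + x' ⊗ₜ y' = 0) : y = 0 ∧ y' = 0 := by
  obtain ⟨u, hu, hu'⟩ := hf.sep1 hx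
  have h1 := congrArg (kU f W u) h
  rw [map_add, kU_tmul, kU_tmul, hu, hu', one_smul, zero_smul, add_zero, map_zero] at h1
  refine ⟨h1, ?_⟩
  rw [h1, TensorProduct.tmul_zero, zero_add] at h
  exact hf.tmul_eq_zero hx' h

theorem not_mem_symm {x x' : U} (hx : x ∉ Submodule.span F {x'}) (hx0 : x' ≠ 0) :
    x' ∉ Submodule.span F {x} := by
  intro h
  obtain ⟨c, hc⟩ := Submodule.mem_span_singleton.1 h
  have hc0 : c ≠ 0 := by
    rintro rfl
    rw [zero_smul] at hc
    exact hx0 hc.symm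
  apply hx
  refine Submodule.mem_span_singleton.2 ⟨c⁻¹, ?_⟩
  rw [← hc, smul_smul, inv_mul_cancel₀ hc0, one_smul]

theorem ne_of_not_mem {x x' : U} (hx : x ∉ Submodule.span F {x'}) : x ≠ 0 := by
  rintro rfl
  exact hx (Submodule.zero_mem _)

/-- If all vectors are mapped to multiples of themselves and a nonzero vector is killed, the map
is zero. -/
theorem eq_zero_of_scalar {h : Module.End F W} (hs : ∀ w, h w ∈ Submodule.span F {w}) {x : W}
    (hx : x ≠ 0) (hx0 : h x = 0) : h = 0 := by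
  ext w
  rw [LinearMap.zero_apply]
  by_cases hw : w ∈ Submodule.span F {x}
  · obtain ⟨c, rfl⟩ := Submodule.mem_span_singleton.1 hw
    rw [map_smul, hx0, smul_zero]
  · obtain ⟨c, hc⟩ := Submodule.mem_span_singleton.1 (hs w)
    obtain ⟨d, hd⟩ := Submodule.mem_span_singleton.1 (hs (w + x))
    rw [map_add, hx0, add_zero, ← hc, smul_add] at hd
    have h1 : d • x = (c - d) • w := by
      rw [sub_smul, ← hd]
      abel
    by_cases hcd : c - d = 0
    · rw [hcd, zero_smul] at h1
      have hd0 : d = 0 := (smul_eq_zero.1 h1).resolve_right hx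
      rw [hd0, sub_zero] at hcd
      rw [← hc, hcd, zero_smul]
    · exfalso
      apply hw
      refine Submodule.mem_span_singleton.2 ⟨(c - d)⁻¹ * d, ?_⟩
      rw [mul_smul, h1, smul_smul, inv_mul_cancel₀ hcd, one_smul]

/-- Vectors orthogonal to `x` outside `⟨x⟩` span `x^⊥`. -/
theorem Alt.mem_span_of_perp (hf : Alt f) (hd : 3 ≤ Module.finrank F U) {x y : U}
    (h : ∀ t, f t x = 0 → t ∉ Submodule.span F {x} → f t y = 0) : y ∈ Submodule.span F {x} := by
  by_cases hx : x = 0
  · -- then `f t y = 0` for all `t ≠ 0`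
    have hy : y = 0 := by
      apply hf.nd' y fun t => ?_
      by_cases ht : t = 0
      · rw [ht, map_zero, LinearMap.zero_apply]
      · refine h t (by rw [hx, map_zero]) ?_
        rw [hx]
        intro hmem
        obtain ⟨c, hc⟩ := Submodule.mem_span_singleton.1 hmem
        rw [smul_zero] at hc
        exact ht hc.symm
    rw [hy]
    exact Submodule.zero_mem _
  · by_contra hy
    obtain ⟨t, ht, ht'⟩ := hf.sep1 hy
    by_cases hts : t ∈ Submodule.span F {x}
    · -- add a vector of `x^⊥` outside `⟨x⟩`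
      obtain ⟨s, hs, hs'⟩ : ∃ s, f s x = 0 ∧ s ∉ Submodule.span F {x} := by
        by_contra hcon
        push Not at hcon
        have h1 : perp f (Submodule.span F {x}) ≤ Submodule.span F {x} := fun z hz =>
          hcon z (hf.comm_zero (hz x (Submodule.mem_span_singleton_self x)))
        have h2 := Submodule.finrank_mono h1
        have h3 := hf.finrank_perp (Submodule.span F {x})
        have h4 := finrank_span_singleton (K := F) hx
        omega
      have h1 := h s hs hs'
      have h2 := h (s + t) (by rw [map_add, LinearMap.add_apply, hs, ht', add_zero]) (by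
        intro hmem
        apply hs'
        have := Submodule.sub_mem _ hmem hts
        rwa [add_sub_cancel_right] at this)
      rw [map_add, LinearMap.add_apply, h1, ht, zero_add] at h2
      exact one_ne_zero h2
    · rw [h t ht' hts] at ht
      exact zero_ne_one ht

/-- If `n (z ⊗ t) ∈ z ⊗ W` for all `z, t` then `n = 1 ⊗ ν`. -/
theorem Alt.eq_map_one (hf : Alt f) (hU0 : ∃ u : U, u ≠ 0) {n : Module.End F (U ⊗[F] W)}
    (h : ∀ z t u, f u z = 0 → kU f W u (n (z ⊗ₜ t)) = 0) :
    ∃ ν : Module.End F W, n = TensorProduct.map 1 ν := by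
  obtain ⟨z0, hz0⟩ := hU0
  obtain ⟨u0, hu0⟩ := hf.exists_ne' hz0
  have hs : ∀ z t, ∃ s, n (z ⊗ₜ t) = z ⊗ₜ s := fun z t =>
    exists_tmul_of_kU hf fun u hu => h z t u hu
  let ν : Module.End F W := kU f W u0 ∘ₗ n ∘ₗ TensorProduct.mk F U W z0
  have hν : ∀ t, n (z0 ⊗ₜ t) = z0 ⊗ₜ ν t := by
    intro t
    obtain ⟨s, hs⟩ := hs z0 t
    have : ν t = kU f W u0 (n (z0 ⊗ₜ t)) := rfl
    rw [this, hs, kU_tmul, hu0, one_smul]
  refine ⟨ν, ?_⟩
  apply TensorProduct.ext'
  intro z t
  rw [map_tmul, Module.End.one_apply]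
  by_cases hz : z ∈ Submodule.span F {z0}
  · obtain ⟨c, rfl⟩ := Submodule.mem_span_singleton.1 hz
    rw [← TensorProduct.smul_tmul', map_smul, hν, TensorProduct.smul_tmul']
  · obtain ⟨s, hs1⟩ := hs z t
    obtain ⟨s', hs2⟩ := hs (z + z0) t
    have h1 : z ⊗ₜ[F] (s' - s) + z0 ⊗ₜ (s' - ν t) = 0 := by
      have h2 : n ((z + z0) ⊗ₜ t) = z ⊗ₜ s + z0 ⊗ₜ ν t := by
        rw [TensorProduct.add_tmul, map_add, hs1, hν]
      rw [hs2, TensorProduct.add_tmul] at h2
      rw [TensorProduct.tmul_sub, TensorProduct.tmul_sub]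
      have h3 : z ⊗ₜ[F] s' - z ⊗ₜ s + (z0 ⊗ₜ s' - z0 ⊗ₜ ν t) =
        (z ⊗ₜ[F] s' + z0 ⊗ₜ s') - (z ⊗ₜ s + z0 ⊗ₜ ν t) := by abel
      rw [h3, h2, sub_self]
    obtain ⟨e1, e2⟩ := hf.indep_zero hz hz0 h1
    rw [hs1, ← sub_eq_zero.1 e1, sub_eq_zero.1 e2]

/-! ### Commutator of two quadratic elements -/

theorem In.comm4 {V : Type*} [AddCommGroup V] [Module F V] {M : Subgroup (V ≃ₗ[F] V)}
    {n n' : Module.End F V} (h : In M n) (h' : In M n') (e : n * n = 0) (e' : n' * n' = 0)
    (e1 : n * n' * n = 0) (e2 : n' * n * n' = 0) : In M (n * n' - n' * n) := by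
  have h1 := (h.mul h').mul ((h.neg e).mul (h'.neg e'))
  refine h1.congr ?_
  have h2 : n + n' + n * n' + (-n + -n' + -n * -n') + (n + n' + n * n') * (-n + -n' + -n * -n') =
      n * n' - n' * n - n * n - n' * n' + (n * n) * n' + n' * n * n' - n * n' * n -
        n * (n' * n') + n * (n' * n * n') := by noncomm_ring
  rw [h2, e, e', e1, e2]
  simp

/-! ### The matrix coefficients of `n` -/

/-- `t ↦ kU u (n (v ⊗ t))`. -/
noncomputable def co (f : LinearMap.BilinForm F U) (n : Module.End F (U ⊗[F] W)) (u v : U) :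
    Module.End F W := kU f W u ∘ₗ n ∘ₗ TensorProduct.mk F U W v

theorem co_apply (n : Module.End F (U ⊗[F] W)) (u v : U) (t : W) :
    co f n u v t = kU f W u (n (v ⊗ₜ t)) := rfl

theorem co_smul_left (n : Module.End F (U ⊗[F] W)) (c : F) (u v : U) :
    co f n (c • u) v = c • co f n u v := by
  ext t
  rw [co_apply, kU_smul]
  rfl

theorem NnN (n : Module.End F (U ⊗[F] W)) (u v x y : U) :
    (TensorProduct.map (E1 f u v) 1 : Module.End F (U ⊗[F] W)) * n *
      (TensorProduct.map (E1 f x y) 1 : Module.End F (U ⊗[F] W)) =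
      TensorProduct.map (E1 f u y) (co f n v x) := by
  apply TensorProduct.ext'
  intro z t
  rw [Module.End.mul_apply, Module.End.mul_apply, map_tmul, map_tmul, E1_apply,
    Module.End.one_apply, map_E1_left, Module.End.one_apply, ← TensorProduct.smul_tmul',
    map_smul, map_smul, E1_apply, co_apply, TensorProduct.smul_tmul]

/-- The data of the extraction step. -/
structure Ext (f : LinearMap.BilinForm F U) (g : LinearMap.BilinForm F W)
    (Q : QuadraticForm F (U ⊗[F] W)) (M : Subgroup ((U ⊗[F] W) ≃ₗ[F] (U ⊗[F] W)))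
    (L : Submodule F W) (n : Module.End F (U ⊗[F] W)) : Prop where
  inM : In M n
  nil : Nil (UL U L) n

theorem UL_map (S : Module.End F U) (L : Submodule F W) :
    ∀ v ∈ UL U L, TensorProduct.map S (1 : Module.End F W) v ∈ UL U L := by
  intro v hv
  have h1 : UL U L ≤ (UL U L).comap (TensorProduct.map S (1 : Module.End F W)) := by
    refine Submodule.span_le.2 ?_
    rintro _ ⟨z, t, ht, rfl⟩
    exact tmul_mem_UL _ ht
  exact h1 hv

theorem UL_smul_map (c : F) (S : Module.End F U) (L : Submodule F W) :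
    ∀ v ∈ UL U L, (c • TensorProduct.map S (1 : Module.End F W)) v ∈ UL U L := fun v hv =>
  Submodule.smul_mem _ _ (UL_map S L v hv)

/-- For singular image the skew symmetry. -/
theorem Hy.skew (h : Hy f g Q M) {n : Module.End F (U ⊗[F] W)} (hn : In M n)
    (h0 : ∀ v v', polar Q (n v) (n v') = 0) (v v' : U ⊗[F] W) :
    polar Q v (n v') = - polar Q v' (n v) := by
  obtain ⟨s, hs, hs'⟩ := hn
  have h1 := polar_map (h.hO hs) v v'
  rw [hs', hs', polar_add_left, polar_add_right, polar_add_right, h0, add_zero] at h1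
  have h2 : polar Q v (n v') + polar Q (n v) v' = 0 := by
    have h3 : polar Q v v' + polar Q v (n v') + polar Q (n v) v' = polar Q v v' := h1
    rw [add_assoc] at h3
    exact left_eq_add.1 h3.symm
  rw [polar_comm Q v' (n v)]
  exact eq_neg_of_add_eq_zero_left h2

theorem Sp2.polar_UL (h : Sp2 f g Q) {L : Submodule F W} (hL : perp g L = L)
    {v v' : U ⊗[F] W} (hv : v ∈ UL U L) (hv' : v' ∈ UL U L) : polar Q v v' = 0 := by
  have h1 : UL U L ≤ LinearMap.ker (polarBilin Q v') := by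
    refine Submodule.span_le.2 ?_
    rintro _ ⟨z, t, ht, rfl⟩
    show polar Q v' (z ⊗ₜ t) = 0
    rw [polar_comm, h.polW]
    rw [mem_UL_iff h.hg, hL] at hv'
    rw [hv' t ht, map_zero]
  have h2 : polar Q v' v = 0 := h1 hv
  rw [polar_comm]
  exact h2

theorem Hy.co_adj (h : Hy f g Q M) {L : Submodule F W} (hL : perp g L = L)
    {n : Module.End F (U ⊗[F] W)} (hn : In M n) (hN : Nil (UL U L) n) (u v : U) (s t : W) :
    g s (co f n u v t) = g (co f n v u s) t := by
  have h1 := h.skew hn (fun v v' => h.polar_UL hL (hN.im v) (hN.im v')) (u ⊗ₜ s) (v ⊗ₜ t)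
  rw [h.polU, h.polU] at h1
  rw [co_apply, h1, co_apply, ← h.hg.neg]

/-- The subspace `⟨u, v⟩^⊥ ⊗ W`. -/
noncomputable def Auv (f : LinearMap.BilinForm F U) (W : Type*) [AddCommGroup W] [Module F W]
    (u v : U) : Submodule F (U ⊗[F] W) :=
  LinearMap.ker (kU f W u) ⊓ LinearMap.ker (kU f W v)

theorem mem_Auv {u v : U} {x : U ⊗[F] W} :
    x ∈ Auv f W u v ↔ kU f W u x = 0 ∧ kU f W v x = 0 := Iff.rfl

theorem Auv_map (u v : U) (R : Module.End F W) :
    ∀ x ∈ Auv f W u v, TensorProduct.map (1 : Module.End F U) R x ∈ Auv f W u v := by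
  intro x hx
  rw [mem_Auv] at hx ⊢
  rw [kU_map, kU_map, hx.1, hx.2, map_zero]
  exact ⟨rfl, rfl⟩

theorem Auv_smul_map (c : F) (u v : U) (R : Module.End F W) :
    ∀ x ∈ Auv f W u v, (c • TensorProduct.map (1 : Module.End F U) R) x ∈ Auv f W u v :=
  fun x hx => Submodule.smul_mem _ _ (Auv_map u v R x hx)

theorem Alt.nil_Auv (hf : Alt f) {u v : U} (huv : f u v = 0) (R : Module.End F W) :
    Nil (Auv f W u v) (TensorProduct.map (E1 f u v) R) where
  im := fun x => by
    rw [map_E1_left, mem_Auv, kU_tmul, kU_tmul, hf.alt, hf.comm_zero huv, zero_smul]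
    exact ⟨rfl, rfl⟩
  ker := fun x hx => by
    rw [map_E1_left, hx.2, map_zero, TensorProduct.tmul_zero]

theorem Alt.nil_Auv' (hf : Alt f) {u v : U} (huv : f u v = 0) (R : Module.End F W) :
    Nil (Auv f W u v) (TensorProduct.map (E1 f v u) R) where
  im := fun x => by
    rw [map_E1_left, mem_Auv, kU_tmul, kU_tmul, hf.alt, huv, zero_smul]
    exact ⟨rfl, rfl⟩
  ker := fun x hx => by
    rw [map_E1_left, hx.1, map_zero, TensorProduct.tmul_zero]

end Cfsg.Agent.H887.TenSp
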