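import Mathlib
import Cfsg.Agent.H887.TenSp.ExtractFour

/-!
The extraction of root elements, `dim U = 2`, `|F| > 2`.
-/

set_option autoImplicit false
set_option linter.unusedSectionVars false
set_option linter.unusedSimpArgs false

namespace Cfsg.Agent.H887.TenSp

open TensorProduct QuadraticMap Cfsg.Agent.LieClassical.OrthCore
  Cfsg.Agent.LieClassical.OrthTrans Cfsg.Agent.ClassicalGeometry.OrthAutBasic
  Cfsg.Agent.H887.SiegelMethod

variable {F U W : Type*} [Field F] [AddCommGroup U] [Module F U] [AddCommGroup W] [Module F W]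
  [FiniteDimensional F U] [FiniteDimensional F W]
  {f : LinearMap.BilinForm F U} {g : LinearMap.BilinForm F W}
  {Q : QuadraticForm F (U ⊗[F] W)} {M : Subgroup ((U ⊗[F] W) ≃ₗ[F] (U ⊗[F] W))}

theorem Hy.beta_of_NU (h : Hy f g Q M) {u : U} (hu0 : u ≠ 0) {m : Module.End F W}
    (hI : In M (TensorProduct.map (E1 f u u) m)) (hm0 : m ≠ 0) {x : W} (hx : x ≠ 0)
    (hmx : m x = 0) : Beta g Q M := by
  obtain ⟨z, hz⟩ := h.hf.exists_ne hu0
  have hzu : f z u = -1 := by rw [h.hf.neg, hz]
  have hsing : ∀ v v' : U ⊗[F] W, polar Q (TensorProduct.map (E1 f u u) m v)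
      (TensorProduct.map (E1 f u u) m v') = 0 := by
    intro v v'
    rw [map_E1_left, map_E1_left, h.pol, h.hf.alt, zero_mul]
  have hadj : ∀ s t, g s (m t) = g (m s) t := by
    intro s t
    have h1 := h.skew hI hsing (z ⊗ₜ s) (z ⊗ₜ t)
    rw [map_tmul, map_tmul, E1_apply, hz, one_smul, h.pol, h.pol, hzu, neg_one_mul, neg_one_mul,
      neg_neg, h.hg.neg t, ← neg_eq_iff_eq_neg, neg_neg] at h1
    exact h1
  have halt : ∀ w, g w (m w) = 0 := by
    intro w
    obtain ⟨s, hs, hs'⟩ := hI
    have h1 := h.hO hs (z ⊗ₜ w)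
    rw [hs', map_tmul, E1_apply, hz, one_smul, Q_add, h.Qp, h.Qp, h.pol, hzu, zero_add, zero_add,
      neg_one_mul, neg_eq_zero] at h1
    exact h1
  obtain ⟨w, hw⟩ : ∃ w, m w ∉ Submodule.span F {w} := by
    by_contra hcon
    push Not at hcon
    exact hm0 (eq_zero_of_scalar hcon hx hmx)
  have hw0 : w ≠ 0 := by
    rintro rfl
    rw [map_zero] at hw
    exact hw (Submodule.zero_mem _)
  refine h.beta_of hu0 (ne_of_not_mem hw) (not_mem_symm hw hw0) (h.mem_Ts_of_In
    (by rw [h.hf.alt, zero_mul]) (one_ne_zero (α := F)) fun c => ?_)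
  have hN : Nil (Auv f W u u) (TensorProduct.map (E1 f u u) m) :=
    h.hf.nil_Auv (h.hf.alt u) m
  have h1 := hI.comm hN (h.hW w c) (NW_sq h.hg w c) (Auv_smul_map _ _ _ _)
  refine h1.congr ?_
  have e1 : E1 g w w * m = E1 g w (m w) := by
    ext y
    rw [Module.End.mul_apply, E1_apply, E1_apply, hadj]
  have e2 : m * E1 g w w = E1 g (m w) w := by
    ext y
    rw [Module.End.mul_apply, E1_apply, E1_apply, map_smul]
  have e3 : E1 g w w * m * E1 g w w = 0 := by
    rw [E1_conj, halt, zero_smul]
  rw [one_smul, h.rt_eq]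
  simp only [smul_mul_assoc, mul_smul_comm, map_mul', one_mul, mul_one, e1, e2]
  have e4 : E1 g w (m w) * E1 g w w = 0 := by
    rw [← e1, e3]
  rw [e4, TensorProduct.map_zero_right]
  module

theorem Alt.mem_span_of_two (hf : Alt f) (hd : Module.finrank F U = 2) {u y : U} (hu : u ≠ 0)
    (h : f u y = 0) : y ∈ Submodule.span F {u} := by
  have h1 : Submodule.span F {u} ≤ perp f (Submodule.span F {u}) := by
    rw [Submodule.span_le, Set.singleton_subset_iff]
    intro z hz
    obtain ⟨c, rfl⟩ := Submodule.mem_span_singleton.1 hz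
    rw [map_smul, LinearMap.smul_apply, hf.alt, smul_zero]
  have h3 := hf.finrank_perp (Submodule.span F {u})
  have h4 := finrank_span_singleton (K := F) hu
  have h2 := Submodule.eq_of_le_of_finrank_eq h1 (by omega)
  rw [h2]
  intro z hz
  obtain ⟨c, rfl⟩ := Submodule.mem_span_singleton.1 hz
  rw [map_smul, LinearMap.smul_apply, h, smul_zero]

theorem Alt.decomp_two (hf : Alt f) (hd : Module.finrank F U = 2) {u v : U} (huv : f u v = 1)
    (z : U) : z = f u z • v - f v z • u := by
  have hu : u ≠ 0 := by rintro rfl; simp at huv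
  have hvu : f v u = -1 := by rw [hf.neg, huv]
  have h1 : f u (z - (f u z • v - f v z • u)) = 0 := by
    simp [huv, hf.alt]
  obtain ⟨c, hc⟩ := Submodule.mem_span_singleton.1 (hf.mem_span_of_two hd hu h1)
  have h2 : f v (z - (f u z • v - f v z • u)) = 0 := by
    simp [hvu, hf.alt]
  rw [← hc, map_smul, hvu, smul_eq_mul, mul_neg, mul_one, neg_eq_zero] at h2
  rw [h2, zero_smul] at hc
  exact sub_eq_zero.1 hc.symm

theorem Alt.decomp_two' (hf : Alt f) (hd : Module.finrank F U = 2) {u v : U} (huv : f u v = 1)
    (y : U ⊗[F] W) : y = v ⊗ₜ kU f W u y - u ⊗ₜ kU f W v y := by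
  induction y with
  | zero => simp
  | tmul z t =>
    rw [kU_tmul, kU_tmul, TensorProduct.tmul_smul, TensorProduct.tmul_smul,
      TensorProduct.smul_tmul', TensorProduct.smul_tmul', ← TensorProduct.sub_tmul,
      ← hf.decomp_two hd huv z]
  | add x y hx hy =>
    rw [map_add, map_add, TensorProduct.tmul_add, TensorProduct.tmul_add]
    conv_lhs => rw [hx, hy]
    abel

theorem Hy.ext_two (h : Hy f g Q M) (hdU : Module.finrank F U = 2)
    (hq : ∃ c : F, c ≠ 0 ∧ c ≠ 1) (hb : ¬ Beta g Q M) {L : Submodule F W}
    (hL0 : ∃ x ∈ L, x ≠ 0) {n : Module.End F (U ⊗[F] W)} (hn : In M n)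
    (hN : Nil (UL U L) n) : ∃ ν : Module.End F W, n = TensorProduct.map 1 ν := by
  obtain ⟨x, hxL, hx0⟩ := hL0
  have hco : ∀ u v, co f n u v x = 0 := fun u v => by
    rw [co_apply, hN.ker _ (tmul_mem_UL v hxL), map_zero]
  have claim : ∀ u : U, u ≠ 0 → co f n u u = 0 := by
    intro u hu
    by_contra ha
    by_cases h2 : (2 : F) = 0
    · obtain ⟨c0, hc0, hc1⟩ := hq
      have hsq : c0 * c0 - 1 ≠ 0 := by
        intro e
        apply hc1
        have e1 : (c0 - 1) * (c0 - 1) = 0 := by
          have : (c0 - 1) * (c0 - 1) = (c0 * c0 - 1) - 2 * (c0 - 1) := by ring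
          rw [this, e, h2]
          ring
        have e2 := mul_self_eq_zero.1 e1
        exact sub_eq_zero.1 e2
      obtain ⟨v, huv⟩ := h.hf.exists_ne hu
      have hcu : c0 • u ≠ 0 := smul_ne_zero hc0 hu
      obtain ⟨X, hX, hXu⟩ := h.transU hu hcu
      -- the key element
      have key : ∀ μ : F, In M (TensorProduct.map (E1 f u u)
          ((c0 * c0 - 1) • (μ • (co f n u v + co f n v u) - (μ * μ) • co f n u u))) := by
        intro μ
        have h1 := hn.comm hN (h.hU u μ) (NU_sq h.hf u μ) (UL_smul_map _ _ L)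
        have hN1 := hN.comm (UL_smul_map μ (E1 f u u) L)
        have e1 : (μ • TensorProduct.map (E1 f u u) (1 : Module.End F W)) * n -
            n * (μ • TensorProduct.map (E1 f u u) 1) -
            (μ • TensorProduct.map (E1 f u u) 1) * n * (μ • TensorProduct.map (E1 f u u) 1) =
            TensorProduct.map (E1 f u u)
              (μ • (co f n u v + co f n v u) - (μ * μ) • co f n u u) +
            TensorProduct.map 1 (-(μ • co f n u u)) := by
          apply TensorProduct.ext'
          intro z t
          have ez : z ⊗ₜ[F] t = f u z • (v ⊗ₜ t) - f v z • (u ⊗ₜ t) := by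
            conv_lhs => rw [h.hf.decomp_two hdU huv z]
            rw [TensorProduct.sub_tmul, TensorProduct.smul_tmul', TensorProduct.smul_tmul']
          have en : n (u ⊗ₜ t) = v ⊗ₜ co f n u u t - u ⊗ₜ co f n v u t :=
            h.hf.decomp_two' hdU huv _
          have en1 : kU f W u (n (z ⊗ₜ t)) = f u z • co f n u v t - f v z • co f n u u t := by
            rw [ez, map_sub, map_smul, map_smul, map_sub, map_smul, map_smul]
            rfl
          have eN : ∀ y : U ⊗[F] W, TensorProduct.map (E1 f u u) (1 : Module.End F W) y =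
              u ⊗ₜ kU f W u y := by
            intro y
            rw [map_E1_left, Module.End.one_apply]
          simp only [LinearMap.sub_apply, LinearMap.add_apply, Module.End.mul_apply,
            LinearMap.smul_apply, eN, map_smul, kU_tmul, TensorProduct.tmul_smul, map_tmul,
            E1_apply, Module.End.one_apply, LinearMap.neg_apply, TensorProduct.tmul_neg]
          rw [en1, en]
          have e2 : kU f W u (v ⊗ₜ co f n u u t - u ⊗ₜ co f n v u t) = co f n u u t := by
            rw [map_sub, kU_tmul, kU_tmul, huv, h.hf.alt, one_smul, zero_smul, sub_zero]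
          rw [e2]
          -- `z = f u z v - f v z u`
          have ez2 : z ⊗ₜ[F] co f n u u t = f u z • (v ⊗ₜ co f n u u t) -
              f v z • (u ⊗ₜ co f n u u t) := by
            conv_lhs => rw [h.hf.decomp_two hdU huv z]
            rw [TensorProduct.sub_tmul, TensorProduct.smul_tmul', TensorProduct.smul_tmul']
          rw [ez2]
          simp only [TensorProduct.tmul_sub, TensorProduct.tmul_add, TensorProduct.tmul_smul,
            ← TensorProduct.smul_tmul']
          have h20 : ∀ y : U ⊗[F] W, (2 : F) • y = 0 := fun y => by rw [h2, zero_smul]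
          have e3 := h20 (μ • f v z • (u ⊗ₜ co f n u u t))
          rw [← sub_eq_zero]
          rw [← neg_eq_zero, ← e3]
          module
        have h2' := h1.congr e1
        rw [e1] at hN1
        have h3 := h2'.conj hX.2
        have e4 : ((actU W X : (U ⊗[F] W) ≃ₗ[F] (U ⊗[F] W)) : (U ⊗[F] W) →ₗ[F] (U ⊗[F] W)) ∘ₗ
            (TensorProduct.map (E1 f u u)
              (μ • (co f n u v + co f n v u) - (μ * μ) • co f n u u) +
            TensorProduct.map 1 (-(μ • co f n u u))) ∘ₗ
            ((actU W X)⁻¹ : (U ⊗[F] W) ≃ₗ[F] (U ⊗[F] W)) =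
            TensorProduct.map ((c0 * c0) • E1 f u u)
              (μ • (co f n u v + co f n v u) - (μ * μ) • co f n u u) +
            TensorProduct.map 1 (-(μ • co f n u u)) := by
          apply TensorProduct.ext'
          intro z t
          have e5 : ((actU W X)⁻¹ : (U ⊗[F] W) ≃ₗ[F] (U ⊗[F] W)) (z ⊗ₜ t) = X⁻¹ z ⊗ₜ t := by
            rw [← map_inv, actU_tmul]
          have e6 : f u (X⁻¹ z) = c0 * f u z := by
            rw [← hX.1, hXu, map_smul, LinearMap.smul_apply, smul_eq_mul]
            congr 2
            exact LinearEquiv.apply_symm_apply X z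
          have e7 : X (X⁻¹ z) = z := LinearEquiv.apply_symm_apply X z
          show actU W X ((TensorProduct.map (E1 f u u)
              (μ • (co f n u v + co f n v u) - (μ * μ) • co f n u u) +
            TensorProduct.map 1 (-(μ • co f n u u)) : Module.End F (U ⊗[F] W))
              (((actU W X)⁻¹ : (U ⊗[F] W) ≃ₗ[F] (U ⊗[F] W)) (z ⊗ₜ t))) = _
          rw [e5, LinearMap.add_apply, map_tmul, map_tmul, map_add, actU_tmul, actU_tmul,
            E1_apply, map_smul, e6, hXu, LinearMap.add_apply, map_tmul, map_tmul,
            Module.End.one_apply, Module.End.one_apply, e7, LinearMap.smul_apply, E1_apply,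
            smul_smul, smul_smul]
          congr 3
          ring
        rw [e4] at h3
        have hN3 : Nil (UL U L) (TensorProduct.map ((c0 * c0) • E1 f u u)
              (μ • (co f n u v + co f n v u) - (μ * μ) • co f n u u) +
            TensorProduct.map 1 (-(μ • co f n u u))) := by
          rw [← e4]
          have hpres : ∀ Y : U ≃ₗ[F] U, ∀ y ∈ UL U L, actU W Y y ∈ UL U L := by
            intro Y y hy
            have h1 : UL U L ≤ (UL U L).comap (actU W Y : (U ⊗[F] W) →ₗ[F] (U ⊗[F] W)) := by
              refine Submodule.span_le.2 ?_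
              rintro _ ⟨z, t, ht, rfl⟩
              show actU W Y (z ⊗ₜ t) ∈ UL U L
              rw [actU_tmul]
              exact tmul_mem_UL _ ht
            exact h1 hy
          constructor
          · intro y
            exact hpres X _ (hN1.im _)
          · intro y hy
            have h5 : ((actU W X)⁻¹ : (U ⊗[F] W) ≃ₗ[F] (U ⊗[F] W)) y ∈ UL U L := by
              rw [← map_inv]
              exact hpres X⁻¹ y hy
            have h6 := hN1.ker _ h5
            show actU W X _ = 0
            rw [LinearMap.comp_apply]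
            erw [h6]
            exact map_zero _
        have h7 := h3.sub h2' (hN1.mul hN1) (hN3.mul hN1)
        refine h7.congr ?_
        rw [TensorProduct.map_smul_left, TensorProduct.map_smul_right]
        module
      -- one of `μ = 1`, `μ = c0` gives a nonzero operator
      set A := co f n u v + co f n v u with hA
      set B := co f n u u with hB
      have hAx : A x = 0 := by rw [hA, LinearMap.add_apply, hco, hco, add_zero]
      have hBx : B x = 0 := hco u u
      have hkill : ∀ μ : F, ((c0 * c0 - 1) • (μ • A - (μ * μ) • B)) x = 0 := by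
        intro μ
        rw [LinearMap.smul_apply, LinearMap.sub_apply, LinearMap.smul_apply,
          LinearMap.smul_apply, hAx, hBx, smul_zero, smul_zero, sub_zero, smul_zero]
      have hzero : ∀ μ : F, μ • A - (μ * μ) • B = 0 := by
        intro μ
        by_contra hne
        exact hb (h.beta_of_NU hu (key μ) (smul_ne_zero hsq hne) hx0 (hkill μ))
      have h1 := hzero 1
      have h3 := hzero c0
      rw [one_smul, one_mul, one_smul, sub_eq_zero] at h1
      rw [h1, ← sub_smul] at h3
      rcases smul_eq_zero.1 h3 with h4 | h4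
      · have : c0 * (1 - c0) = 0 := by rw [← h4]; ring
        rcases mul_eq_zero.1 this with h5 | h5
        · exact hc0 h5
        · exact hc1 (sub_eq_zero.1 h5).symm
      · exact ha h4
    · apply hb
      have h1 := hn.comm2 hN (h.hU u (-(2 : F)⁻¹)) (NU_sq h.hf u _) (UL_smul_map _ _ L)
        (h.hU u 1) (NU_sq h.hf u 1) (UL_smul_map _ _ L) (NU_mul_zero (h.hf.alt u) _ _)
        (NU_mul_zero (h.hf.alt u) _ _)
      have h3 : In M (TensorProduct.map (E1 f u u) (co f n u u)) := by
        refine h1.congr ?_
        rw [one_smul, mul_smul_comm, smul_mul_assoc, smul_mul_assoc, NnN, ← add_smul, ← neg_smul]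
        have : -(-(2 : F)⁻¹ + -(2 : F)⁻¹) = 1 := by
          field_simp
          ring
        rw [this, one_smul]
      exact h.beta_of_NU hu h3 ha hx0 (hco u u)
  have hU0 : ∃ u : U, u ≠ 0 := by
    by_contra hcon
    push Not at hcon
    have : Subsingleton U := ⟨fun a b => by rw [hcon a, hcon b]⟩
    have := Module.finrank_zero_of_subsingleton (R := F) (M := U)
    omega
  refine h.hf.eq_map_one hU0 ?_
  intro z t u hu
  by_cases hz : z = 0
  · rw [hz, TensorProduct.zero_tmul, map_zero, map_zero]
  obtain ⟨c, rfl⟩ := Submodule.mem_span_singleton.1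
    (h.hf.mem_span_of_two hdU hz (h.hf.comm_zero hu))
  rw [kU_smul]
  have := LinearMap.congr_fun (claim z hz) t
  rw [co_apply, LinearMap.zero_apply] at this
  rw [this, smul_zero]

end Cfsg.Agent.H887.TenSp
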