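import Mathlib
import Cfsg.Agent.H887.TenSp.Sylow
import Cfsg.Agent.H880.TI

/-!
The main theorem: `E Q ≤ M` or `M ≤ Sten`.
-/

set_option autoImplicit false
set_option linter.unusedSectionVars false
set_option linter.unusedSimpArgs false

namespace Cfsg.Agent.H887.TenSp

open TensorProduct QuadraticMap Cfsg.Agent.LieClassical.OrthCore
  Cfsg.Agent.LieClassical.OrthTrans Cfsg.Agent.ClassicalGeometry.OrthAutBasic
  Cfsg.Agent.H887.SiegelMethod

variable {F U W : Type*} [Field F] [AddCommGroup U] [Module F U] [AddCommGroup W] [Module F W]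
  [FiniteDimensional F U] [FiniteDimensional F W]
  {f : LinearMap.BilinForm F U} {g : LinearMap.BilinForm F W}
  {Q : QuadraticForm F (U ⊗[F] W)} {M : Subgroup ((U ⊗[F] W) ≃ₗ[F] (U ⊗[F] W))}

/-- The stabiliser of `U ⊗ w` in `M`. -/
def KW (M : Subgroup ((U ⊗[F] W) ≃ₗ[F] (U ⊗[F] W))) (w : W) :
    Subgroup ((U ⊗[F] W) ≃ₗ[F] (U ⊗[F] W)) where
  carrier := {r | r ∈ M ∧ ∃ A : U ≃ₗ[F] U, ∀ z, r (z ⊗ₜ w) = A z ⊗ₜ w}
  one_mem' := ⟨M.one_mem, 1, fun _ => rfl⟩
  mul_mem' := by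
    rintro s r ⟨hs, A, hA⟩ ⟨hr, B, hB⟩
    refine ⟨M.mul_mem hs hr, A * B, fun z => ?_⟩
    show s (r (z ⊗ₜ w)) = _
    rw [hB, hA]
    rfl
  inv_mem' := by
    rintro s ⟨hs, A, hA⟩
    refine ⟨M.inv_mem hs, A⁻¹, fun z => ?_⟩
    apply s.injective
    rw [hA]
    have e1 : A (A⁻¹ z) = z := LinearEquiv.apply_symm_apply A z
    rw [e1]
    exact LinearEquiv.apply_symm_apply s _

/-- Images of `UL p` under maps given on pure tensors. -/
theorem UL_le_iff {p : Submodule F W} {X : Submodule F (U ⊗[F] W)} :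
    UL U p ≤ X ↔ ∀ z : U, ∀ t ∈ p, z ⊗ₜ t ∈ X := by
  constructor
  · intro h z t ht
    exact h (tmul_mem_UL z ht)
  · intro h
    refine Submodule.span_le.2 ?_
    rintro _ ⟨z, t, ht, rfl⟩
    exact h z t ht

theorem Hy.KW_le (h : Hy f g Q M) {p : ℕ} [Fact p.Prime] [CharP F p]
    [Finite ((U ⊗[F] W) ≃ₗ[F] (U ⊗[F] W))] (hLZ : LZ g M)
    (hdim : Module.finrank F U < Module.finrank F W) (hU0 : ∃ u : U, u ≠ 0)
    (hq : 3 ≤ Module.finrank F U ∨ ∃ c : F, c ≠ 0 ∧ c ≠ 1) {w : W} (hw : w ≠ 0) :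
    KW M w ≤ Sten F U W := by
  obtain ⟨L, hwL, hL⟩ := h.hg.exists_maxiso w
  have hL0 : ∃ x ∈ L, x ≠ 0 := ⟨w, hwL, hw⟩
  -- the normal `p`-subgroup
  set A0 : Submodule F (U ⊗[F] W) := UL U (Submodule.span F {w}) with hA0
  set B0 : Submodule F (U ⊗[F] W) := UL U (perp g (Submodule.span F {w})) with hB0
  have hspan : ∀ {y : W}, y ∈ perp g (Submodule.span F {w}) ↔ g w y = 0 := by
    intro y
    constructor
    · intro hy
      exact hy w (Submodule.mem_span_singleton_self w)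
    · intro hy z hz
      obtain ⟨c, rfl⟩ := Submodule.mem_span_singleton.1 hz
      rw [map_smul, LinearMap.smul_apply, hy, smul_zero]
  have hB0iff : ∀ v : U ⊗[F] W, v ∈ B0 ↔ kW U g w v = 0 := by
    intro v
    rw [hB0, mem_UL_iff h.hg, h.hg.perp_perp]
    constructor
    · intro hv
      exact hv w (Submodule.mem_span_singleton_self w)
    · intro hv y hy
      obtain ⟨c, rfl⟩ := Submodule.mem_span_singleton.1 hy
      rw [kW_smul, hv, smul_zero]
  have hstab : ∀ r ∈ KW M w, (∀ v ∈ A0, r v ∈ A0) ∧ (∀ v ∈ B0, r v ∈ B0) := by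
    rintro r ⟨hr, A, hA⟩
    constructor
    · intro v hv
      have h1 : A0 ≤ A0.comap (r : (U ⊗[F] W) →ₗ[F] (U ⊗[F] W)) := by
        rw [hA0, UL_le_iff]
        intro z t ht
        obtain ⟨c, rfl⟩ := Submodule.mem_span_singleton.1 ht
        show r (z ⊗ₜ (c • w)) ∈ UL U (Submodule.span F {w})
        rw [TensorProduct.tmul_smul, map_smul, hA]
        exact Submodule.smul_mem _ _ (tmul_mem_UL _ (Submodule.mem_span_singleton_self w))
      exact h1 hv
    · intro v hv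
      rw [hB0iff] at hv ⊢
      apply h.hf.nd' _ fun z => ?_
      rw [← h.polW]
      have h1 : z ⊗ₜ[F] w = r (A⁻¹ z ⊗ₜ w) := by
        rw [hA]
        have e1 : A (A⁻¹ z) = z := LinearEquiv.apply_symm_apply A z
        rw [e1]
      rw [h1, polar_map (h.hO hr), h.polW, hv, map_zero]
  have hY : M ⊓ Rad A0 B0 ≤ M ⊓ Sten F U W := by
    refine sylow_normal_le (p := p) (K := KW M w) (R₀ := RL M L) (h.RL_pgroup hL) ?_ ?_ ?_ ?_ ?_
    · refine le_inf ?_ (le_inf (fun s hs => hs.1) (RL_le_Sten h.hf hLZ hU0 hL))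
      rintro s ⟨hs, hs'⟩
      exact ⟨hs, 1, fun z => hs' z w hwL⟩
    · intro S hS hRS hSK r hr hrn
      refine ⟨hr.1, h.normalizer_le hLZ hdim hU0 hq hL hL0 hS hRS ?_ hr.1 hrn⟩
      exact hSK.trans (inf_le_right.trans inf_le_right)
    · exact (Rad_pgroup (p := p) (A := A0) (B := B0)).to_le inf_le_right
    · rintro s ⟨hs, hs1, -, -⟩
      exact ⟨hs, 1, fun z => hs1 _ (tmul_mem_UL z (Submodule.mem_span_singleton_self w))⟩
    · intro k hk s hs
      refine ⟨M.mul_mem (M.mul_mem hk.1 hs.1) (M.inv_mem hk.1), ?_⟩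
      have hk' := (KW M w).inv_mem hk
      exact Rad_conj hs.2 (hstab k hk).1 (hstab _ hk').1 (hstab k hk).2 (hstab _ hk').2
  -- now the theorem
  intro r hr
  obtain ⟨hrM, A, hA⟩ := id hr
  have hrr : ∀ v, r (r⁻¹ v) = v := fun v => LinearEquiv.apply_symm_apply r v
  have hrr' : ∀ v, r⁻¹ (r v) = v := fun v => LinearEquiv.symm_apply_apply r v
  obtain ⟨u0, hu0⟩ := hU0
  -- the subspace `L'`
  let L' : Submodule F W :=
    { carrier := {t | ∀ z : U, r⁻¹ (z ⊗ₜ t) ∈ UL U L}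
      zero_mem' := fun z => by
        rw [TensorProduct.tmul_zero, map_zero]
        exact Submodule.zero_mem _
      add_mem' := by
        intro a b ha hb z
        rw [TensorProduct.tmul_add, map_add]
        exact Submodule.add_mem _ (ha z) (hb z)
      smul_mem' := by
        intro c a ha z
        rw [TensorProduct.tmul_smul, map_smul]
        exact Submodule.smul_mem _ _ (ha z) }
  have hL'iff : ∀ t, t ∈ L' ↔ ∀ z : U, r⁻¹ (z ⊗ₜ t) ∈ UL U L := fun t => Iff.rfl
  have hAinv : ∀ z, r⁻¹ (z ⊗ₜ w) = A⁻¹ z ⊗ₜ w := by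
    intro z
    apply r.injective
    rw [hrr, hA]
    have e1 : A (A⁻¹ z) = z := LinearEquiv.apply_symm_apply A z
    rw [e1]
  have hwL' : w ∈ L' := by
    intro z
    rw [hAinv]
    exact tmul_mem_UL _ hwL
  have hfwd : ∀ z : U, ∀ x ∈ L, r (z ⊗ₜ x) ∈ UL U L' := by
    intro z x hx
    by_cases hxw : x ∈ Submodule.span F {w}
    · obtain ⟨c, rfl⟩ := Submodule.mem_span_singleton.1 hxw
      rw [TensorProduct.tmul_smul, map_smul, hA]
      exact Submodule.smul_mem _ _ (tmul_mem_UL _ hwL')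
    · have hwx : g w x = 0 := by
        rw [← hL] at hx
        exact hx w hwL
      have hxw0 := h.hg.comm_zero hwx
      -- the short root element
      have hsr := h.shortW hxw0 1
      rw [one_smul] at hsr
      obtain ⟨s, hsM, hs⟩ := hsr
      have hsn : ∀ v, s v = v + (kW U g w v ⊗ₜ x + kW U g x v ⊗ₜ w) := by
        intro v
        rw [hs, TensorProduct.map_add_right, LinearMap.add_apply, map_E1_right, map_E1_right]
        rfl
      have hsR : s ∈ Rad A0 B0 := by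
        refine ⟨fun v hv => ?_, fun v hv => ?_, fun v => ?_⟩
        · have h1 : A0 ≤ LinearMap.eqLocus (s : (U ⊗[F] W) →ₗ[F] (U ⊗[F] W)) LinearMap.id := by
            rw [hA0, UL_le_iff]
            intro z' t ht
            obtain ⟨c, rfl⟩ := Submodule.mem_span_singleton.1 ht
            show s (z' ⊗ₜ (c • w)) = z' ⊗ₜ (c • w)
            rw [hsn, kW_tmul, kW_tmul, map_smul, map_smul, h.hg.alt, hxw0, smul_zero,
              zero_smul, TensorProduct.zero_tmul, TensorProduct.zero_tmul, add_zero, add_zero]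
          exact h1 hv
        · rw [hsn, (hB0iff v).1 hv, TensorProduct.zero_tmul, zero_add, add_sub_cancel_left]
          exact tmul_mem_UL _ (Submodule.mem_span_singleton_self w)
        · rw [hsn, add_sub_cancel_left]
          exact Submodule.add_mem _ (tmul_mem_UL _ (hspan.2 hwx))
            (tmul_mem_UL _ (hspan.2 (h.hg.alt w)))
      -- its conjugate
      have hk' := (KW M w).inv_mem hr
      have hconj : r * s * r⁻¹ ∈ M ⊓ Rad A0 B0 :=
        ⟨M.mul_mem (M.mul_mem hrM hsM) (M.inv_mem hrM),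
          Rad_conj hsR (hstab r hr).1 (hstab _ hk').1 (hstab r hr).2 (hstab _ hk').2⟩
      obtain ⟨-, Y, Z, hYZ⟩ := hY hconj
      have hfixw : ∀ z, Y z ⊗ₜ[F] Z w = z ⊗ₜ w := by
        intro z
        rw [← hYZ]
        exact hconj.2.1 _ (tmul_mem_UL z (Submodule.mem_span_singleton_self w))
      have hZw : Z w ≠ 0 := fun e => hw ((LinearEquiv.map_eq_zero_iff Z).1 e)
      obtain ⟨y0, hy0⟩ := h.hg.exists_ne' hZw
      have hYs : ∀ z, Y z = g y0 w • z := by
        intro z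
        have h1 := congrArg (kW U g y0) (hfixw z)
        rwa [kW_tmul, kW_tmul, hy0, one_smul] at h1
      let ζ : Module.End F W := g y0 w • (Z : W →ₗ[F] W) - 1
      have hζ : ∀ v : U ⊗[F] W, TensorProduct.map 1 ζ v =
          r (kW U g w (r⁻¹ v) ⊗ₜ x + kW U g x (r⁻¹ v) ⊗ₜ w) := by
        intro v
        have h0 : ∀ v, (r * s * r⁻¹) v = v +
            r (kW U g w (r⁻¹ v) ⊗ₜ x + kW U g x (r⁻¹ v) ⊗ₜ w) := by
          intro v
          show r (s (r⁻¹ v)) = _
          rw [hsn, map_add r, hrr]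
        have h1 : ∀ v, (r * s * r⁻¹) v = v + TensorProduct.map 1 ζ v := by
          intro v
          induction v with
          | zero => simp
          | tmul z t =>
            have e1 : ζ t = g y0 w • Z t - t := rfl
            rw [hYZ, hYs, map_tmul, Module.End.one_apply, e1, TensorProduct.tmul_sub,
              TensorProduct.tmul_smul, TensorProduct.smul_tmul']
            abel
          | add v v' hv hv' => rw [map_add, hv, hv', map_add]; abel
        have h2 := h1 v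
        rw [h0] at h2
        exact (add_left_cancel h2).symm
      -- `ζ t ∈ L'`
      have hζL' : ∀ t, ζ t ∈ L' := by
        intro t z'
        have h1 := hζ (z' ⊗ₜ t)
        rw [map_tmul, Module.End.one_apply] at h1
        rw [h1, hrr']
        exact Submodule.add_mem _ (tmul_mem_UL _ hx) (tmul_mem_UL _ hwL)
      have hζUL : ∀ v : U ⊗[F] W, TensorProduct.map 1 ζ v ∈ UL U L' := by
        intro v
        induction v with
        | zero => rw [map_zero]; exact Submodule.zero_mem _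
        | tmul z t => rw [map_tmul]; exact tmul_mem_UL _ (hζL' t)
        | add v v' hv hv' => rw [map_add]; exact Submodule.add_mem _ hv hv'
      obtain ⟨y, hy, hy'⟩ := h.hg.sep1 (not_mem_symm hxw hw)
      -- `g y w = 1`, `g y x = 0`
      have h1 := hζUL (r (z ⊗ₜ (-y)))
      rw [hζ, hrr', kW_tmul, kW_tmul, map_neg, map_neg, h.hg.comm_zero hy', neg_zero, zero_smul,
        TensorProduct.zero_tmul, add_zero, h.hg.neg w y, hy, neg_neg, one_smul] at h1
      exact h1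
  have hperp : perp g L' = L' := by
    apply le_antisymm
    · intro t ht z
      rw [mem_UL_iff h.hg, hL]
      intro y hy
      apply h.hf.nd' _ fun z' => ?_
      rw [← h.polW]
      have h1 := polar_map (h.hO hrM) (z' ⊗ₜ y) (r⁻¹ (z ⊗ₜ t))
      rw [hrr] at h1
      rw [← h1, polar_comm, h.polW]
      have h2 := hfwd z' y hy
      rw [mem_UL_iff h.hg] at h2
      rw [h2 t ht, map_zero]
    · intro t ht t' ht'
      obtain ⟨u1, hu1⟩ := h.hf.exists_ne hu0
      have h1 := polar_map ((O Q).inv_mem (h.hO hrM)) (u0 ⊗ₜ t') (u1 ⊗ₜ t)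
      rw [h.polar_UL hL (ht' u0) (ht u1), h.pol, hu1, one_mul] at h1
      exact h1.symm
  exact h.lemK hLZ hdim ⟨u0, hu0⟩ hq hrM hL hperp ⟨hfwd, fun z x hx => hx z⟩ hL0

theorem actW_mem_Sten (B : W ≃ₗ[F] W) : actW U B ∈ Sten F U W :=
  ⟨1, B, fun x y => actW_tmul B x y⟩

/-- An element of `M` mapping some `U ⊗ w` to some `U ⊗ w'` is in `Sten`. -/
theorem Hy.mem_of_carry (h : Hy f g Q M) {p : ℕ} [Fact p.Prime] [CharP F p]
    [Finite ((U ⊗[F] W) ≃ₗ[F] (U ⊗[F] W))] (hLZ : LZ g M)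
    (hdim : Module.finrank F U < Module.finrank F W) (hU0 : ∃ u : U, u ≠ 0)
    (hq : 3 ≤ Module.finrank F U ∨ ∃ c : F, c ≠ 0 ∧ c ≠ 1) {w w' : W} (hw : w ≠ 0)
    (hw' : w' ≠ 0) {r : (U ⊗[F] W) ≃ₗ[F] (U ⊗[F] W)} (hr : r ∈ M) {A : U ≃ₗ[F] U}
    (hA : ∀ z, r (z ⊗ₜ w) = A z ⊗ₜ w') : r ∈ Sten F U W := by
  obtain ⟨B, hB, hB'⟩ := h.transW hw' hw
  have h1 : actW U B * r ∈ KW M w := by
    refine ⟨M.mul_mem hB.2 hr, A, fun z => ?_⟩
    show actW U B (r (z ⊗ₜ w)) = _
    rw [hA, actW_tmul, hB']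
  have h2 := h.KW_le (p := p) hLZ hdim hU0 hq hw h1
  have h3 := (Sten F U W).mul_mem ((Sten F U W).inv_mem (actW_mem_Sten (U := U) B)) h2
  rwa [inv_mul_cancel_left] at h3

/-- Each vector is killed by some `kW w`. -/
theorem exists_kW_zero (hdim : Module.finrank F U < Module.finrank F W) (v : U ⊗[F] W) :
    ∃ w : W, w ≠ 0 ∧ kW U g w v = 0 := by
  have h1 : LinearMap.ker (kWlin U g v) ≠ ⊥ := LinearMap.ker_ne_bot_of_finrank_lt hdim
  obtain ⟨w, hw, hw0⟩ := Submodule.exists_mem_ne_zero_of_ne_bot h1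
  exact ⟨w, hw0, hw⟩

/-- **Main theorem.** -/
theorem Hy.main (h : Hy f g Q M) {p : ℕ} [hp : Fact p.Prime] [CharP F p] [Finite F]
    [Finite ((U ⊗[F] W) ≃ₗ[F] (U ⊗[F] W))] (hU : 2 ≤ Module.finrank F U)
    (hdim : Module.finrank F U < Module.finrank F W) (hW : 5 ≤ Module.finrank F W)
    (hq : 3 ≤ Module.finrank F U ∨ ∃ c : F, c ≠ 0 ∧ c ≠ 1) (hbig : Big Q) :
    E Q ≤ M ∨ M ≤ Sten F U W := by
  have hU0 : ∃ u : U, u ≠ 0 := by
    by_contra hcon
    push Not at hcon
    have : Subsingleton U := ⟨fun a b => by rw [hcon a, hcon b]⟩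
    have := Module.finrank_zero_of_subsingleton (R := F) (M := U)
    omega
  by_cases hb : Beta g Q M
  · exact Or.inl (h.E_le_of_beta hW hU0 hbig hb)
  right
  have hLZ := h.LZ_of hU hW hq hb
  -- the TI property
  let D : Set ((U ⊗[F] W) ≃ₗ[F] (U ⊗[F] W)) :=
    {s | ∃ w : W, w ≠ 0 ∧ s = actW U (tv h.hg w 1)}
  have hD : ∀ s ∈ D, s ∈ M ⊓ Sten F U W ∧ ∃ k : ℕ, s ^ p ^ k = 1 := by
    rintro _ ⟨w, hw, rfl⟩
    refine ⟨⟨(h.tvW w 1).2, actW_mem_Sten _⟩, ?_⟩
    obtain ⟨L, hwL, hL⟩ := h.hg.exists_maxiso w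
    obtain ⟨k, hk⟩ := h.RL_pgroup (p := p) hL ⟨_, h.tv_mem_RL hL hwL 1⟩
    exact ⟨k, congrArg Subtype.val hk⟩
  have hTI : ∀ s ∈ D, ∀ r ∈ M, r * s * r⁻¹ ∈ M ⊓ Sten F U W → r ∈ M ⊓ Sten F U W := by
    rintro _ ⟨w, hw, rfl⟩ r hr ⟨-, Y, Z, hYZ⟩
    obtain ⟨w', A, d, hC⟩ := h.carry hdim hU0 (h.hO hr) hw one_ne_zero
      (Y := (Y : U →ₗ[F] U)) (Z := (Z : W →ₗ[F] W)) hYZ
    exact ⟨hr, h.mem_of_carry (p := p) hLZ hdim hU0 hq hw hC.hw hr hC.hA⟩
  -- transfer for pointwise stabilisers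
  have transfer : ∀ r ∈ M, ∀ (X : Set (U ⊗[F] W)) (w w' : W), w ≠ 0 → w' ≠ 0 →
      (∀ v ∈ X, kW U g w v = 0) → (∀ v ∈ X, kW U g w' (r v) = 0) →
      ∃ s ∈ Sten F U W, ∀ v ∈ X, r v = s v := by
    intro r hr X w w' hw hw' hX hX'
    let P : Subgroup ((U ⊗[F] W) ≃ₗ[F] (U ⊗[F] W)) :=
      { carrier := {s | s ∈ M ∧ ∀ v ∈ X, s (r v) = r v}
        one_mem' := ⟨M.one_mem, fun _ _ => rfl⟩
        mul_mem' := by
          rintro s t ⟨hs, hs'⟩ ⟨ht, ht'⟩
          refine ⟨M.mul_mem hs ht, fun v hv => ?_⟩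
          show s (t (r v)) = _
          rw [ht' v hv, hs' v hv]
        inv_mem' := by
          rintro s ⟨hs, hs'⟩
          refine ⟨M.inv_mem hs, fun v hv => ?_⟩
          conv_lhs => rw [← hs' v hv]
          exact LinearEquiv.symm_apply_apply s _ }
    have h1 : actW U (tv h.hg w' 1) ∈ P := by
      refine ⟨(h.tvW w' 1).2, fun v hv => ?_⟩
      rw [actW_tv, hX' v hv, TensorProduct.zero_tmul, smul_zero, add_zero]
    have h2 : r * actW U (tv h.hg w 1) * r⁻¹ ∈ P := by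
      refine ⟨M.mul_mem (M.mul_mem hr (h.tvW w 1).2) (M.inv_mem hr), fun v hv => ?_⟩
      show r (actW U (tv h.hg w 1) (r⁻¹ (r v))) = r v
      have e : r⁻¹ (r v) = v := LinearEquiv.symm_apply_apply r v
      rw [e, actW_tv, hX v hv, TensorProduct.zero_tmul, smul_zero, add_zero]
    obtain ⟨m, hm, s, hs, e⟩ := Cfsg.Agent.H880.ti_transfer_one hp.out M (M ⊓ Sten F U W)
      inf_le_left D hD hTI P ⟨w', hw', rfl⟩ ⟨w, hw, rfl⟩ hr h1 h2
    refine ⟨s, hs.2, fun v hv => ?_⟩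
    have h3 := hm.2 v hv
    have h4 : r v = m (s v) := by rw [e]; rfl
    apply m.injective
    rw [h3, h4]
  -- pure tensors are mapped to pure tensors
  have hpure : ∀ r ∈ M, ∀ (z : U) (t : W), ∃ (z' : U) (t' : W), r (z ⊗ₜ t) = z' ⊗ₜ t' := by
    intro r hr z t
    obtain ⟨w, hw, hw'⟩ := exists_kW_zero (g := g) hdim (z ⊗ₜ t)
    obtain ⟨w', hw1, hw1'⟩ := exists_kW_zero (g := g) hdim (r (z ⊗ₜ t))
    obtain ⟨s, ⟨A, B, hAB⟩, hs⟩ := transfer r hr {z ⊗ₜ t} w w' hw hw1
      (fun v hv => by rw [Set.mem_singleton_iff.1 hv, hw'])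
      (fun v hv => by rw [Set.mem_singleton_iff.1 hv, hw1'])
    exact ⟨A z, B t, by rw [hs _ (Set.mem_singleton _), hAB]⟩
  intro r hr
  obtain ⟨w, hw⟩ : ∃ w : W, w ≠ 0 := by
    obtain ⟨w, hw, -⟩ := exists_kW_zero (g := g) hdim (0 : U ⊗[F] W)
    exact ⟨w, hw⟩
  have hch : ∀ z : U, ∃ (z' : U) (t' : W), r (z ⊗ₜ w) = z' ⊗ₜ t' := fun z => hpure r hr z w
  choose a b hab using hch
  -- a common orthogonal vector
  obtain ⟨w', hw', hw2⟩ : ∃ w' : W, w' ≠ 0 ∧ ∀ z : U, kW U g w' (r (z ⊗ₜ w)) = 0 := by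
    obtain ⟨z1, hz1⟩ := hU0
    have hr1 : r (z1 ⊗ₜ w) ≠ 0 := fun e =>
      h.hf.tmul_ne_zero hz1 hw ((LinearEquiv.map_eq_zero_iff r).1 e)
    have ha1 : a z1 ≠ 0 := by
      intro e
      apply hr1
      rw [hab, e, TensorProduct.zero_tmul]
    have hb1 : b z1 ≠ 0 := by
      intro e
      apply hr1
      rw [hab, e, TensorProduct.tmul_zero]
    -- a dichotomy for two vectors
    have dich : ∀ z z' : U, r (z ⊗ₜ w) ≠ 0 → r (z' ⊗ₜ w) ≠ 0 →
        b z' ∈ Submodule.span F {b z} ∨ a z' ∈ Submodule.span F {a z} := by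
      intro z z' hz hz'
      by_contra hcon
      push Not at hcon
      obtain ⟨hb', ha'⟩ := hcon
      have haz : a z ≠ 0 := by
        intro e
        apply hz
        rw [hab, e, TensorProduct.zero_tmul]
      have hbz : b z ≠ 0 := by
        intro e
        apply hz
        rw [hab, e, TensorProduct.tmul_zero]
      have hsum : a (z + z') ⊗ₜ[F] b (z + z') = a z ⊗ₜ b z + a z' ⊗ₜ b z' := by
        rw [← hab, ← hab, ← hab, TensorProduct.add_tmul, map_add]
      obtain ⟨y1, hy1, hy1'⟩ := h.hg.sep1 hb'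
      obtain ⟨y0, hy0, hy0'⟩ := h.hg.sep1 (not_mem_symm hb' hbz)
      have e1 := congrArg (kW U g y1) hsum
      have e0 := congrArg (kW U g y0) hsum
      rw [map_add, kW_tmul, kW_tmul, kW_tmul, hy1, hy1', zero_smul, one_smul, zero_add] at e1
      rw [map_add, kW_tmul, kW_tmul, kW_tmul, hy0, hy0', zero_smul, one_smul, add_zero] at e0
      -- `a z' = c1 a(z+z')`, `a z = c0 a(z+z')`
      have hc0 : g y0 (b (z + z')) ≠ 0 := by
        intro e
        rw [e, zero_smul] at e0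
        exact haz e0.symm
      apply ha'
      refine Submodule.mem_span_singleton.2 ⟨g y1 (b (z + z')) * (g y0 (b (z + z')))⁻¹, ?_⟩
      rw [← e1, ← e0, smul_smul, mul_assoc, inv_mul_cancel₀ hc0, mul_one]
    by_cases hall : ∀ z, b z ∈ Submodule.span F {b z1} ∨ r (z ⊗ₜ w) = 0
    · refine ⟨b z1, hb1, fun z => ?_⟩
      rcases hall z with h1 | h1
      · obtain ⟨c, hc⟩ := Submodule.mem_span_singleton.1 h1
        rw [hab, kW_tmul, ← hc, map_smul, h.hg.alt, smul_zero, zero_smul]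
      · rw [h1, map_zero]
    · push Not at hall
      obtain ⟨z2, hb2, hr2⟩ := hall
      have ha2 : a z2 ∈ Submodule.span F {a z1} := (dich z1 z2 hr1 hr2).resolve_left hb2
      have haz2 : a z2 ≠ 0 := by
        intro e
        apply hr2
        rw [hab, e, TensorProduct.zero_tmul]
      -- all `a z ∈ ⟨a z1⟩`
      have hspan21 : Submodule.span F {a z2} ≤ Submodule.span F {a z1} := by
        rw [Submodule.span_le, Set.singleton_subset_iff]
        exact ha2
      have hall2 : ∀ z, ∃ t : W, r (z ⊗ₜ w) = a z1 ⊗ₜ t := by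
        intro z
        by_cases hz : r (z ⊗ₜ w) = 0
        · exact ⟨0, by rw [hz, TensorProduct.tmul_zero]⟩
        have hmem : a z ∈ Submodule.span F {a z1} := by
          rcases dich z1 z hr1 hz with h1 | h1
          · rcases dich z2 z hr2 hz with h2 | h2
            · -- `b z ∈ ⟨b z1⟩ ∩ ⟨b z2⟩ = 0`
              exfalso
              obtain ⟨c, hc⟩ := Submodule.mem_span_singleton.1 h1
              obtain ⟨d, hd⟩ := Submodule.mem_span_singleton.1 h2
              have hd0 : d ≠ 0 := by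
                rintro rfl
                rw [zero_smul] at hd
                apply hz
                rw [hab, ← hd, TensorProduct.tmul_zero]
              apply hb2
              refine Submodule.mem_span_singleton.2 ⟨d⁻¹ * c, ?_⟩
              rw [mul_smul, hc, ← hd, smul_smul, inv_mul_cancel₀ hd0, one_smul]
            · exact hspan21 h2
          · exact h1
        obtain ⟨c, hc⟩ := Submodule.mem_span_singleton.1 hmem
        exact ⟨c • b z, by rw [hab, ← hc, TensorProduct.smul_tmul]⟩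
      obtain ⟨y, hy⟩ := h.hf.exists_ne' ha1
      let β : U →ₗ[F] W := kU f W y ∘ₗ (r : (U ⊗[F] W) →ₗ[F] (U ⊗[F] W)) ∘ₗ
        (TensorProduct.mk F U W).flip w
      have hβ : ∀ z, r (z ⊗ₜ w) = a z1 ⊗ₜ β z := by
        intro z
        obtain ⟨t, ht⟩ := hall2 z
        have : β z = kU f W y (r (z ⊗ₜ w)) := rfl
        rw [this, ht, kU_tmul, hy, one_smul]
      have hrange : LinearMap.range β ≠ ⊤ := by
        intro e
        have h1 := LinearMap.finrank_range_le β
        rw [e, finrank_top] at h1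
        omega
      obtain ⟨w', hw', hw2⟩ := h.hg.exists_perp hrange
      refine ⟨w', hw', fun z => ?_⟩
      rw [hβ, kW_tmul, hw2 _ (LinearMap.mem_range_self β z), zero_smul]
  obtain ⟨s, ⟨A, B, hAB⟩, hs⟩ := transfer r hr {v | ∃ z : U, v = z ⊗ₜ w} w w' hw hw'
    (by
      rintro _ ⟨z, rfl⟩
      rw [kW_tmul, h.hg.alt, zero_smul])
    (by
      rintro _ ⟨z, rfl⟩
      exact hw2 z)
  have hBw : B w ≠ 0 := fun e => hw ((LinearEquiv.map_eq_zero_iff B).1 e)
  exact h.mem_of_carry (p := p) hLZ hdim hU0 hq hw hBw hr (A := A)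
    fun z => by rw [hs _ ⟨z, rfl⟩, hAB]

end Cfsg.Agent.H887.TenSp
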