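import Mathlib
import Cfsg.Agent.H887.TenSp.Local

/-!
Lemma K: an element of `M` mapping `U ⊗ L` to `U ⊗ L'` is of the form `A ⊗ B`.
-/

set_option autoImplicit false
set_option linter.unusedSectionVars false
set_option linter.unusedSimpArgs false

namespace Cfsg.Agent.H887.TenSp

open TensorProduct QuadraticMap Cfsg.Agent.LieClassical.OrthCore
  Cfsg.Agent.LieClassical.OrthTrans Cfsg.Agent.ClassicalGeometry.OrthAutBasic
  Cfsg.Agent.H887.SiegelMethod

variable {F U W : Type*} [Field F] [AddCommGroup U] [Module F U] [AddCommGroup W] [Module F W]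
  [FiniteDimensional F U] [FiniteDimensional F W]
  {f : LinearMap.BilinForm F U} {g : LinearMap.BilinForm F W}
  {Q : QuadraticForm F (U ⊗[F] W)} {M : Subgroup ((U ⊗[F] W) ≃ₗ[F] (U ⊗[F] W))}

/-- `r` maps `U ⊗ L` onto `U ⊗ L'`. -/
structure MapsL (U : Type*) [AddCommGroup U] [Module F U]
    (r : (U ⊗[F] W) ≃ₗ[F] (U ⊗[F] W)) (L L' : Submodule F W) : Prop where
  fwd : ∀ z : U, ∀ x ∈ L, r (z ⊗ₜ x) ∈ UL U L'
  bwd : ∀ z : U, ∀ x ∈ L', r⁻¹ (z ⊗ₜ x) ∈ UL U L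

theorem MapsL.fwd' {r : (U ⊗[F] W) ≃ₗ[F] (U ⊗[F] W)} {L L' : Submodule F W}
    (h : MapsL U r L L') {v : U ⊗[F] W} (hv : v ∈ UL U L) : r v ∈ UL U L' := by
  have h1 : UL U L ≤ (UL U L').comap (r : (U ⊗[F] W) →ₗ[F] (U ⊗[F] W)) := by
    refine Submodule.span_le.2 ?_
    rintro _ ⟨z, t, ht, rfl⟩
    exact h.fwd z t ht
  exact h1 hv

/-- Every transvection of `U` acts on `U ⊗ L'` as expected. -/
theorem Hy.lemK1 (h : Hy f g Q M) (hLZ : LZ g M)
    (hdim : Module.finrank F U < Module.finrank F W) (hU0 : ∃ u : U, u ≠ 0)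
    {r : (U ⊗[F] W) ≃ₗ[F] (U ⊗[F] W)} (hr : r ∈ M) {L L' : Submodule F W} (hL : perp g L = L)
    (hL' : perp g L' = L') (hm : MapsL U r L L') {x : W} (hxL : x ∈ L) (hx : x ≠ 0) :
    ∃ (w : W) (A : U ≃ₗ[F] U) (d : F), Carry f g r x w A d := by
  have hyM : r * actW U (tv h.hg x 1) * r⁻¹ ∈ M :=
    M.mul_mem (M.mul_mem hr (h.tvW x 1).2) (M.inv_mem hr)
  obtain ⟨ν, hν⟩ := hLZ L' hL' _ hyM (by
    intro z x' hx'
    show r (actW U (tv h.hg x 1) (r⁻¹ (z ⊗ₜ x'))) = z ⊗ₜ x'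
    have h1 := hm.bwd z x' hx'
    rw [mem_UL_iff h.hg, hL] at h1
    rw [actW_tv, h1 x hxL, TensorProduct.zero_tmul, smul_zero, add_zero]
    exact LinearEquiv.apply_symm_apply r _)
  refine h.carry hdim hU0 (h.hO hr) hx one_ne_zero (Y := 1) (Z := 1 + ν) ?_
  intro z t
  rw [hν]
  rfl

theorem Hy.lemK2 (h : Hy f g Q M) (hLZ : LZ g M)
    (hdim : Module.finrank F U < Module.finrank F W) (hU0 : ∃ u : U, u ≠ 0)
    {r : (U ⊗[F] W) ≃ₗ[F] (U ⊗[F] W)} (hr : r ∈ M) {L L' : Submodule F W} (hL : perp g L = L)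
    (hL' : perp g L' = L') (hm : MapsL U r L L') {x0 w0 : W} {A : U ≃ₗ[F] U} {d : F}
    (hx0L : x0 ∈ L) (hC : Carry f g r x0 w0 A d) {x : W} (hxL : x ∈ L) :
    ∃ x' : W, ∀ z, r (z ⊗ₜ x) = A z ⊗ₜ x' := by
  by_cases hxs : x ∈ Submodule.span F {x0}
  · obtain ⟨c, rfl⟩ := Submodule.mem_span_singleton.1 hxs
    refine ⟨c • w0, fun z => ?_⟩
    rw [TensorProduct.tmul_smul, map_smul, hC.hA, TensorProduct.tmul_smul]
  · have hx : x ≠ 0 := ne_of_not_mem hxs
    have hx2 : x0 + x ≠ 0 := by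
      intro e
      apply hxs
      refine Submodule.mem_span_singleton.2 ⟨-1, ?_⟩
      rw [neg_one_smul]
      exact neg_eq_of_add_eq_zero_right e
    obtain ⟨w1, A1, d1, hC1⟩ := h.lemK1 hLZ hdim hU0 hr hL hL' hm hxL hx
    obtain ⟨w2, A2, d2, hC2⟩ := h.lemK1 hLZ hdim hU0 hr hL hL' hm (L.add_mem hx0L hxL) hx2
    obtain ⟨z0, hz0⟩ := hU0
    -- independence of `w0`, `w1`
    have hind : w1 ∉ Submodule.span F {w0} := by
      intro hmem
      obtain ⟨κ, hκ⟩ := Submodule.mem_span_singleton.1 hmem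
      have h1 : r (z0 ⊗ₜ x) = r (A.symm (κ • A1 z0) ⊗ₜ x0) := by
        rw [hC1.hA, hC.hA, LinearEquiv.apply_symm_apply, ← hκ, TensorProduct.smul_tmul]
      have h2 := r.injective h1
      -- contraction
      obtain ⟨y, hy, hy'⟩ := h.hg.sep1 hxs
      have h3 := congrArg (kW U g y) h2
      rw [kW_tmul, kW_tmul, hy, hy', one_smul, zero_smul] at h3
      exact hz0 h3
    have hsum : ∀ z, A2 z ⊗ₜ[F] w2 = A z ⊗ₜ w0 + A1 z ⊗ₜ w1 := by
      intro z
      rw [← hC2.hA, ← hC.hA, ← hC1.hA, TensorProduct.tmul_add, map_add]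
    obtain ⟨y1, hy1, hy1'⟩ := h.hg.sep1 hind
    obtain ⟨y0, hy0, hy0'⟩ := h.hg.sep1 (not_mem_symm hind hC.hw)
    have e1 : ∀ z, A1 z = g y1 w2 • A2 z := by
      intro z
      have := congrArg (kW U g y1) (hsum z)
      rw [map_add, kW_tmul, kW_tmul, kW_tmul, hy1, hy1', zero_smul, one_smul, zero_add] at this
      exact this.symm
    have e0 : ∀ z, A z = g y0 w2 • A2 z := by
      intro z
      have := congrArg (kW U g y0) (hsum z)
      rw [map_add, kW_tmul, kW_tmul, kW_tmul, hy0, hy0', zero_smul, one_smul, add_zero] at this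
      exact this.symm
    have hne : g y0 w2 ≠ 0 := by
      intro e
      have h1 := e0 z0
      rw [e, zero_smul] at h1
      exact hz0 ((LinearEquiv.map_eq_zero_iff A).1 h1)
    refine ⟨(g y1 w2 * (g y0 w2)⁻¹) • w1, fun z => ?_⟩
    rw [hC1.hA, e1, e0, TensorProduct.smul_tmul, TensorProduct.smul_tmul, smul_smul]
    congr 2
    field_simp

/-- Conclusion from the action on the `u ⊗ W`. -/
theorem mem_Sten_of (hf : Alt f) (hU0 : ∃ u : U, u ≠ 0)
    {r : (U ⊗[F] W) ≃ₗ[F] (U ⊗[F] W)} {A : U ≃ₗ[F] U}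
    (hD : ∀ u : U, ∀ t : W, ∃ s : W, r (u ⊗ₜ t) = A u ⊗ₜ s) : r ∈ Sten F U W := by
  obtain ⟨u0, hu0⟩ := hU0
  have hAu0 : A u0 ≠ 0 := fun e => hu0 ((LinearEquiv.map_eq_zero_iff A).1 e)
  obtain ⟨u1, hu1⟩ := hf.exists_ne' hAu0
  let D : W →ₗ[F] W := kU f W u1 ∘ₗ (r : (U ⊗[F] W) →ₗ[F] (U ⊗[F] W)) ∘ₗ
    TensorProduct.mk F U W u0
  have hD0 : ∀ t, r (u0 ⊗ₜ t) = A u0 ⊗ₜ D t := by
    intro t
    obtain ⟨s, hs⟩ := hD u0 t
    have : D t = kU f W u1 (r (u0 ⊗ₜ t)) := rfl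
    rw [this, hs, kU_tmul, hu1, one_smul]
  have hDu : ∀ u t, r (u ⊗ₜ t) = A u ⊗ₜ D t := by
    intro u t
    by_cases hu : u ∈ Submodule.span F {u0}
    · obtain ⟨c, rfl⟩ := Submodule.mem_span_singleton.1 hu
      rw [← TensorProduct.smul_tmul', map_smul, hD0, map_smul, TensorProduct.smul_tmul']
    · obtain ⟨s1, hs1⟩ := hD u t
      obtain ⟨s2, hs2⟩ := hD (u + u0) t
      have hAu : A u ∉ Submodule.span F {A u0} := by
        intro hmem
        obtain ⟨c, hc⟩ := Submodule.mem_span_singleton.1 hmem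
        rw [← map_smul] at hc
        exact hu (Submodule.mem_span_singleton.2 ⟨c, A.injective hc⟩)
      have h1 : A u ⊗ₜ[F] (s2 - s1) + A u0 ⊗ₜ (s2 - D t) = 0 := by
        rw [TensorProduct.add_tmul, map_add, hs1, hD0, map_add, TensorProduct.add_tmul] at hs2
        rw [TensorProduct.tmul_sub, TensorProduct.tmul_sub]
        have h3 : A u ⊗ₜ[F] s2 - A u ⊗ₜ s1 + (A u0 ⊗ₜ s2 - A u0 ⊗ₜ D t) =
          (A u ⊗ₜ[F] s2 + A u0 ⊗ₜ s2) - (A u ⊗ₜ s1 + A u0 ⊗ₜ D t) := by abel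
        rw [h3, ← hs2, sub_self]
      obtain ⟨e1, e2⟩ := hf.indep_zero hAu hAu0 h1
      rw [hs1, ← sub_eq_zero.1 e1, sub_eq_zero.1 e2]
  have hinj : Function.Injective D := by
    rw [← LinearMap.ker_eq_bot, LinearMap.ker_eq_bot']
    intro t ht
    have h1 := hD0 t
    rw [ht, TensorProduct.tmul_zero] at h1
    exact hf.tmul_eq_zero hu0 ((LinearEquiv.map_eq_zero_iff r).1 h1)
  exact ⟨A, LinearEquiv.ofInjectiveEndo D hinj, hDu⟩

/-- **Lemma K.** -/
theorem Hy.lemK (h : Hy f g Q M) (hLZ : LZ g M)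
    (hdim : Module.finrank F U < Module.finrank F W) (hU0 : ∃ u : U, u ≠ 0)
    (hq : 3 ≤ Module.finrank F U ∨ ∃ c : F, c ≠ 0 ∧ c ≠ 1)
    {r : (U ⊗[F] W) ≃ₗ[F] (U ⊗[F] W)} (hr : r ∈ M) {L L' : Submodule F W} (hL : perp g L = L)
    (hL' : perp g L' = L') (hm : MapsL U r L L') (hL0 : ∃ x ∈ L, x ≠ 0) : r ∈ Sten F U W := by
  obtain ⟨x0, hx0L, hx0⟩ := hL0
  obtain ⟨w0, A, d, hC⟩ := h.lemK1 hLZ hdim hU0 hr hL hL' hm hx0L hx0
  have hrr : ∀ v, r (r⁻¹ v) = v := fun v => LinearEquiv.apply_symm_apply r v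
  have hrr' : ∀ v, r⁻¹ (r v) = v := fun v => LinearEquiv.symm_apply_apply r v
  have hd := hC.hd
  -- the action on `U ⊗ L`
  have hact : ∀ (u : U) (c : F), ∀ v ∈ UL U L, r (actU W (tv h.hf u c) v) =
      actU W (tv h.hf (A u) (c * d⁻¹)) (r v) := by
    intro u c v hv
    have h1 : UL U L ≤ LinearMap.eqLocus
        ((r : (U ⊗[F] W) →ₗ[F] (U ⊗[F] W)) ∘ₗ
          (actU W (tv h.hf u c) : (U ⊗[F] W) →ₗ[F] (U ⊗[F] W)))
        ((actU W (tv h.hf (A u) (c * d⁻¹)) : (U ⊗[F] W) →ₗ[F] (U ⊗[F] W)) ∘ₗ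
          (r : (U ⊗[F] W) →ₗ[F] (U ⊗[F] W))) := by
      refine Submodule.span_le.2 ?_
      rintro _ ⟨z, t, ht, rfl⟩
      obtain ⟨x', hx'⟩ := h.lemK2 hLZ hdim hU0 hr hL hL' hm hx0L hC ht
      show r (actU W (tv h.hf u c) (z ⊗ₜ t)) = actU W (tv h.hf (A u) (c * d⁻¹)) (r (z ⊗ₜ t))
      rw [actU_tmul, hx', hx', actU_tmul, tv_apply, tv_apply, hC.hf, map_add, map_smul]
      congr 3
      field_simp
    exact h1 hv
  -- the elements `ν`
  have hνex : ∀ (u : U) (c : F), ∃ ν : Module.End F W, (∀ x ∈ L', ν x = 0) ∧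
      ∀ z t, (r * actU W (tv h.hf u c) * r⁻¹) (z ⊗ₜ t) =
        tv h.hf (A u) (c * d⁻¹) z ⊗ₜ (t + ν t) := by
    intro u c
    set τ := tv h.hf (A u) (c * d⁻¹) with hτ
    have hττ : ∀ z, τ (τ⁻¹ z) = z := fun z => LinearEquiv.apply_symm_apply τ z
    have hττ' : ∀ z, τ⁻¹ (τ z) = z := fun z => LinearEquiv.symm_apply_apply τ z
    have hyM : (r * actU W (tv h.hf u c) * r⁻¹) * (actU W τ)⁻¹ ∈ M :=
      M.mul_mem (M.mul_mem (M.mul_mem hr (h.tvU u c).2) (M.inv_mem hr))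
        (M.inv_mem (h.tvU _ _).2)
    have hfix : ∀ z : U, ∀ x ∈ L', ((r * actU W (tv h.hf u c) * r⁻¹) * (actU W τ)⁻¹) (z ⊗ₜ x) =
        z ⊗ₜ x := by
      intro z x hx
      show r (actU W (tv h.hf u c) (r⁻¹ ((actU W τ)⁻¹ (z ⊗ₜ x)))) = z ⊗ₜ x
      rw [← map_inv, actU_tmul, hact u c _ (hm.bwd _ x hx), hrr, ← hτ, actU_tmul, hττ]
    obtain ⟨ν, hν⟩ := hLZ L' hL' _ hyM hfix
    obtain ⟨u1, hu1⟩ := hU0
    refine ⟨ν, fun x hx => ?_, fun z t => ?_⟩
    · have h1 := hν u1 x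
      rw [hfix u1 x hx, TensorProduct.tmul_add] at h1
      exact h.hf.tmul_eq_zero hu1 (left_eq_add.1 h1)
    · have h1 := hν (τ z) t
      rw [← h1]
      show _ = r (actU W (tv h.hf u c) (r⁻¹ ((actU W τ)⁻¹ (τ z ⊗ₜ t))))
      rw [← map_inv, actU_tmul, hττ']
      rfl
  -- `ν = 0`
  have hν0 : ∀ (u : U) (t : W) (z : U), (r * actU W (tv h.hf u 1) * r⁻¹) (z ⊗ₜ t) =
      tv h.hf (A u) d⁻¹ z ⊗ₜ t := by
    intro u t z
    by_cases hu : u = 0
    · have e1 : tv h.hf u 1 = 1 := by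
        ext y
        rw [tv_apply, hu, smul_zero, add_zero]
        rfl
      have e2 : tv h.hf (A u) d⁻¹ = 1 := by
        ext y
        rw [tv_apply, hu, map_zero, smul_zero, add_zero]
        rfl
      rw [e1, e2, map_one, mul_one, mul_inv_cancel]
      rfl
    have hAu : A u ≠ 0 := fun e => hu ((LinearEquiv.map_eq_zero_iff A).1 e)
    -- the difference is linear in `c`
    have hδ : ∀ (c : F) (v : U ⊗[F] W), (r * actU W (tv h.hf u c) * r⁻¹) v =
        v + c • r (u ⊗ₜ kU f W u (r⁻¹ v)) := by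
      intro c v
      show r (actU W (tv h.hf u c) (r⁻¹ v)) = _
      rw [actU_tv, map_add, hrr, map_smul]
    obtain ⟨ν, -, hν⟩ := hνex u 1
    rw [one_mul] at hν
    suffices hz : ν = 0 by
      rw [hν, hz, LinearMap.zero_apply, add_zero]
    obtain ⟨z1, hz1⟩ := h.hf.exists_ne hAu
    have hz1A : z1 ∉ Submodule.span F {A u} := by
      intro hmem
      obtain ⟨c, rfl⟩ := Submodule.mem_span_singleton.1 hmem
      rw [map_smul, h.hf.alt, smul_zero] at hz1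
      exact zero_ne_one hz1
    by_cases hc : ∃ c : F, c ≠ 0 ∧ c ≠ 1
    · obtain ⟨c, hc0, hc1⟩ := hc
      obtain ⟨ν', -, hν'⟩ := hνex u c
      ext t
      rw [LinearMap.zero_apply]
      -- compare on `A u ⊗ t` and `z1 ⊗ t`
      have k1 : ∀ z, c • (tv h.hf (A u) d⁻¹ z ⊗ₜ[F] (t + ν t) - z ⊗ₜ t) =
          tv h.hf (A u) (c * d⁻¹) z ⊗ₜ (t + ν' t) - z ⊗ₜ t := by
        intro z
        rw [← hν, ← hν', hδ, hδ, add_sub_cancel_left, add_sub_cancel_left, one_smul]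
      have k2 := k1 (A u)
      rw [tv_apply, tv_apply, h.hf.alt, mul_zero, zero_smul, add_zero, mul_zero, zero_smul,
        add_zero, ← TensorProduct.tmul_sub, ← TensorProduct.tmul_sub, add_sub_cancel_left,
        add_sub_cancel_left, ← TensorProduct.tmul_smul] at k2
      have k3 : ν' t = c • ν t := (h.hf.tmul_right_inj hAu k2).symm
      have k4 := k1 z1
      rw [tv_apply, tv_apply, hz1, mul_one, mul_one, k3] at k4
      have k5 : z1 ⊗ₜ[F] (0 : W) + A u ⊗ₜ (d⁻¹ • (c • ν t) - (c * d⁻¹) • (c • ν t)) = 0 := by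
        rw [← sub_eq_zero] at k4
        rw [← k4]
        simp only [TensorProduct.add_tmul, TensorProduct.tmul_add, TensorProduct.tmul_sub,
          TensorProduct.tmul_smul, TensorProduct.tmul_zero, ← TensorProduct.smul_tmul']
        module
      obtain ⟨-, k6⟩ := h.hf.indep_zero hz1A hAu k5
      have k7 : (d⁻¹ * c * (1 - c)) • ν t = 0 := by
        rw [← k6]
        module
      refine (smul_eq_zero.1 k7).resolve_left ?_
      exact mul_ne_zero (mul_ne_zero (inv_ne_zero hd) hc0) (sub_ne_zero.2 (Ne.symm hc1))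
    · -- `dim U ≥ 3`: rank argument
      have hU3 := hq.resolve_right hc
      by_contra hνn
      obtain ⟨t0, ht0⟩ : ∃ t0, ν t0 ≠ 0 := by
        by_contra hcon
        push Not at hcon
        exact hνn (LinearMap.ext hcon)
      obtain ⟨z2, hz2, hz2'⟩ := h.hf.exists_perp1 hU3 hAu
      have hz2A := h.hf.comm_zero hz2
      have hz2s : z2 ∉ Submodule.span F {A u, z1} := by
        intro hmem
        obtain ⟨a, b, hab⟩ := Submodule.mem_span_pair.1 hmem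
        have h1 : f (A u) z2 = b := by
          rw [← hab, map_add, map_smul, map_smul, h.hf.alt, hz1, smul_zero, zero_add,
            smul_eq_mul, mul_one]
        rw [hz2A] at h1
        rw [← h1, zero_smul, add_zero] at hab
        exact hz2' (Submodule.mem_span_singleton.2 ⟨a, hab⟩)
      obtain ⟨φ, hφ2, hφ0, hφ1⟩ := h.hf.sep2 hz2s
      let Φ : (W × F) →ₗ[F] W := kU f W u ∘ₗ
        (r⁻¹ : (U ⊗[F] W) ≃ₗ[F] (U ⊗[F] W)).toLinearMap ∘ₗ
        (LinearMap.coprod (TensorProduct.mk F U W z1) (LinearMap.toSpanSingleton F _ (z2 ⊗ₜ t0)))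
      have hΦ : ∀ t a, Φ (t, a) = kU f W u (r⁻¹ (z1 ⊗ₜ t + a • (z2 ⊗ₜ t0))) := by
        intro t a
        rfl
      have hinj : Function.Injective Φ := by
        rw [← LinearMap.ker_eq_bot, LinearMap.ker_eq_bot']
        rintro ⟨t, a⟩ hta
        rw [hΦ] at hta
        have h1 := hδ 1 (z1 ⊗ₜ t + a • (z2 ⊗ₜ t0))
        rw [hta, TensorProduct.tmul_zero, map_zero, smul_zero, add_zero, map_add, map_smul, hν,
          hν, tv_apply, tv_apply, hz1, hz2A, mul_zero, zero_smul, add_zero, mul_one] at h1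
        have h2 := congrArg (kU f W φ) h1
        simp only [map_add, map_smul, kU_tmul, LinearMap.add_apply, hφ1, hφ0, hφ2, smul_zero,
          add_zero, zero_smul, zero_add, one_smul, smul_add, smul_eq_mul, mul_zero] at h2
        have h3 : a = 0 := (smul_eq_zero.1 (left_eq_add.1 h2.symm)).resolve_right ht0
        rw [h3, zero_smul, zero_smul, add_zero, add_zero] at h1
        have h4 : z1 ⊗ₜ[F] ν t + A u ⊗ₜ (d⁻¹ • (t + ν t)) = 0 := by
          rw [← sub_eq_zero] at h1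
          rw [← h1]
          simp only [TensorProduct.add_tmul, TensorProduct.tmul_add, TensorProduct.tmul_sub,
            TensorProduct.tmul_smul, TensorProduct.tmul_zero, ← TensorProduct.smul_tmul']
          module
        obtain ⟨h5, h6⟩ := h.hf.indep_zero hz1A hAu h4
        rw [h5, add_zero] at h6
        have h7 := (smul_eq_zero.1 h6).resolve_left (inv_ne_zero hd)
        rw [h7, h3]
        rfl
      have h1 := LinearMap.finrank_le_finrank_of_injective hinj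
      rw [Module.finrank_prod, Module.finrank_self] at h1
      omega
  -- conclusion
  apply mem_Sten_of h.hf hU0 (A := A)
  intro u t
  by_cases hu : u = 0
  · exact ⟨0, by rw [hu, TensorProduct.zero_tmul, map_zero, TensorProduct.tmul_zero]⟩
  obtain ⟨z, hz⟩ := h.hf.exists_ne hu
  -- `r (u ⊗ kU u v) = d⁻¹ • (A u ⊗ kU (A u) (r v))`
  have key : ∀ v, (r * actU W (tv h.hf u 1) * r⁻¹) v = actU W (tv h.hf (A u) d⁻¹) v := by
    intro v
    induction v with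
    | zero => simp
    | tmul x y => rw [hν0, actU_tmul]
    | add v v' hv hv' => rw [map_add, hv, hv', map_add]
  have h1 := key (r (z ⊗ₜ t))
  have h2 : (r * actU W (tv h.hf u 1) * r⁻¹) (r (z ⊗ₜ t)) = r (z ⊗ₜ t) + r (u ⊗ₜ t) := by
    show r (actU W (tv h.hf u 1) (r⁻¹ (r (z ⊗ₜ t)))) = _
    rw [hrr', actU_tv, kU_tmul, hz, one_smul, one_smul, map_add]
  rw [h2, actU_tv] at h1
  have h3 := add_left_cancel h1
  exact ⟨d⁻¹ • kU f W (A u) (r (z ⊗ₜ t)), by rw [h3, TensorProduct.tmul_smul]⟩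

end Cfsg.Agent.H887.TenSp
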